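import Cfsg.Agent.Lib.CITSuzuki.Lists
import Cfsg.Agent.Lib.Hall.Converse
import Cfsg.Agent.Lib.SylowInter.Basic
import Cfsg.Agent.Lib.Balance.Basic
import Cfsg.Agent.Lib.Involutions.Basic
import Cfsg.Agent.Lib.CIT.Basic

/-!
# Groups with at most one composite element order and an element of order `2p`

First consequences: elementary abelian Sylow 2-subgroups, centralizers are `{2, p}`-groups, and the
structure of a `{2, p}`-subgroup containing a Sylow 2-subgroup.

Owner: helper73.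
-/

set_option autoImplicit false
set_option linter.style.haveILetI false
set_option linter.unusedSectionVars false

namespace Cfsg.Agent.Lib.OneComposite

open Subgroup Cfsg.Agent.Lib.Involutions.Basic

/-- Every element order is `1`, a prime, `2p`, or prime to `2p`. -/
structure Two (p : ℕ) (G : Type*) [Group G] : Prop where
  hp : p.Prime
  ne_two : p ≠ 2
  ex : ∃ x : G, orderOf x = 2 * p
  cases : ∀ g : G, g = 1 ∨ (orderOf g).Prime ∨ orderOf g = 2 * p ∨
    Odd (orderOf g) ∧ ¬ p ∣ orderOf g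

variable {G : Type*} [Group G] [Finite G]

theorem Two.of_oneComp (h : CITSuzuki.Lists.OneComp G) {p : ℕ} (hp : p.Prime) (hp2 : p ≠ 2) {x : G}
    (hx : orderOf x = 2 * p) : Two p G := by
  refine ⟨hp, hp2, ⟨x, hx⟩, fun g => ?_⟩
  by_cases hg : g = 1
  · exact Or.inl hg
  by_cases hgp : (orderOf g).Prime
  · exact Or.inr (Or.inl hgp)
  refine Or.inr (Or.inr (Or.inl (h ⟨⟨g, rfl⟩, ?_, hgp⟩ ⟨⟨x, hx⟩, ?_, ?_⟩)))
  · have := orderOf_pos g
    have : orderOf g ≠ 1 := fun e => hg (orderOf_eq_one_iff.1 e)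
    omega
  · have := hp.two_le; omega
  · exact Nat.not_prime_mul (by norm_num) hp.ne_one

theorem mem_centralizer' {x g : G} : g ∈ centralizer ({x} : Set G) ↔ Commute g x :=
  mem_centralizer_singleton_iff

namespace Two

variable {p : ℕ} (h : Two p G)
include h

theorem p_odd : Odd p := h.hp.odd_of_ne_two h.ne_two

theorem three_le : 3 ≤ p := by
  have := h.hp.two_le; have := h.ne_two; omega

theorem cases_two {g : G} (hd : 2 ∣ orderOf g) : orderOf g = 2 ∨ orderOf g = 2 * p := by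
  rcases h.cases g with e | e | e | ⟨e, -⟩
  · rw [e, orderOf_one] at hd; omega
  · exact Or.inl ((Nat.prime_dvd_prime_iff_eq Nat.prime_two e).1 hd).symm
  · exact Or.inr e
  · exact absurd hd (Nat.odd_iff.1 e |> fun e' => by omega)

theorem cases_p {g : G} (hd : p ∣ orderOf g) : orderOf g = p ∨ orderOf g = 2 * p := by
  rcases h.cases g with e | e | e | ⟨-, e⟩
  · rw [e, orderOf_one, Nat.dvd_one] at hd; exact absurd hd h.hp.ne_one
  · exact Or.inl ((Nat.prime_dvd_prime_iff_eq h.hp e).1 hd).symm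
  · exact Or.inr e
  · exact absurd hd e

theorem orderOf_eq_p_of_dvd {g : G} (hg : g ≠ 1) {k : ℕ} (hd : orderOf g ∣ p ^ k) :
    orderOf g = p := by
  have h1 : orderOf g ≠ 1 := fun e => hg (orderOf_eq_one_iff.1 e)
  obtain ⟨q, hq, hqd⟩ := Nat.exists_prime_and_dvd h1
  obtain rfl := (Nat.prime_dvd_prime_iff_eq hq h.hp).1 (hq.dvd_of_dvd_pow (hqd.trans hd))
  rcases h.cases_p hqd with e | e
  · exact e
  · exact absurd ((Nat.prime_dvd_prime_iff_eq Nat.prime_two hq).1
      (Nat.prime_two.dvd_of_dvd_pow ((e.symm ▸ dvd_mul_right 2 q : 2 ∣ orderOf g).trans hd))).symm h.ne_two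

theorem prime_of_dvd_mul_pow {g : G} (hg : g ≠ 1) {l k : ℕ} (hl : l.Prime) (hlo : Odd l)
    (hd : orderOf g ∣ l * p ^ k) : (orderOf g).Prime := by
  by_cases hp' : p ∣ orderOf g
  · rcases h.cases_p hp' with e | e
    · exact e ▸ h.hp
    · exfalso
      rcases Nat.prime_two.dvd_mul.1 ((e.symm ▸ dvd_mul_right 2 p : 2 ∣ orderOf g).trans hd) with e' | e'
      · exact absurd ((Nat.prime_dvd_prime_iff_eq Nat.prime_two hl).1 e') (fun e2 => by subst e2; exact absurd hlo (by decide))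
      · exact h.ne_two ((Nat.prime_dvd_prime_iff_eq Nat.prime_two h.hp).1 (Nat.prime_two.dvd_of_dvd_pow e')).symm
  · have hd' : orderOf g ∣ l :=
      (((h.hp.coprime_iff_not_dvd.2 hp').symm).pow_right k).dvd_of_dvd_mul_right hd
    rcases hl.eq_one_or_self_of_dvd _ hd' with e | e
    · exact absurd (orderOf_eq_one_iff.1 e) hg
    · exact e ▸ hl

/-- The orders of the elements of `{2, p}`-groups. -/
theorem cases_of_primes {K : Subgroup G} (hK : ∀ q, q.Prime → q ∣ Nat.card K → q = 2 ∨ q = p) {c : G}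
    (hc : c ∈ K) : c = 1 ∨ (orderOf c).Prime ∨ orderOf c = 2 * p := by
  by_cases hc1 : c = 1
  · exact Or.inl hc1
  obtain ⟨q, hq, hqd⟩ := Nat.exists_prime_and_dvd (fun e => hc1 (orderOf_eq_one_iff.1 e) : orderOf c ≠ 1)
  rcases hK q hq (hqd.trans (Subgroup.orderOf_dvd_natCard K hc)) with rfl | rfl
  · rcases h.cases_two hqd with e | e
    · exact Or.inr (Or.inl (e ▸ Nat.prime_two))
    · exact Or.inr (Or.inr e)
  · rcases h.cases_p hqd with e | e
    · exact Or.inr (Or.inl (e ▸ hq))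
    · exact Or.inr (Or.inr e)

theorem not_four {g : G} : ¬ 4 ∣ orderOf g := by
  intro h4
  have := Nat.odd_iff.1 h.p_odd
  rcases h.cases_two ((show 2 ∣ 4 by norm_num).trans h4) with e | e <;> rw [e] at h4 <;> omega

theorem sq_eq_one {g : G} {k : ℕ} (hg : g ^ 2 ^ k = 1) : g * g = 1 := by
  obtain ⟨j, -, hj⟩ := (Nat.dvd_prime_pow Nat.prime_two).1 (orderOf_dvd_of_pow_eq_one hg)
  rcases j with _ | _ | j
  · rw [pow_zero, orderOf_eq_one_iff] at hj
    rw [hj, one_mul]
  · rw [← pow_two, ← (by simpa using hj : orderOf g = 2), pow_orderOf_eq_one]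
  · exact absurd ⟨2 ^ j, by rw [hj]; ring⟩ (h.not_four (g := g))

theorem sq_of_mem {S : Subgroup G} (hS : IsPGroup 2 S) {x : G} (hx : x ∈ S) : x * x = 1 := by
  obtain ⟨k, hk⟩ := hS ⟨x, hx⟩
  exact h.sq_eq_one (k := k) (by simpa using congrArg Subtype.val hk)

theorem comm_of_mem {S : Subgroup G} (hS : IsPGroup 2 S) {x y : G} (hx : x ∈ S) (hy : y ∈ S) :
    x * y = y * x := by
  have hxy := h.sq_of_mem hS (S.mul_mem hx hy)
  have hxx := h.sq_of_mem hS hx
  have hyy := h.sq_of_mem hS hy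
  calc x * y = (x * y)⁻¹ := (inv_eq_of_mul_eq_one_right hxy).symm
    _ = y * x := by rw [mul_inv_rev, inv_eq_of_mul_eq_one_right hxx, inv_eq_of_mul_eq_one_right hyy]

theorem orderOf_invol {S : Subgroup G} (hS : IsPGroup 2 S) {x : G} (hx : x ∈ S) (hx1 : x ≠ 1) :
    orderOf x = 2 :=
  invol_iff.2 ⟨h.sq_of_mem hS hx, hx1⟩

/-- Two distinct primes in the orders of commuting elements are `2` and `p`. -/
theorem primes_of_commute {x y : G} (hc : Commute x y) {r s : ℕ} (hr : r.Prime) (hs : s.Prime)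
    (hrs : r ≠ s) (hr2 : r = 2 ∨ r = p) (hx : r ∣ orderOf x) (hy : s ∣ orderOf y) :
    r = 2 ∧ s = p ∨ r = p ∧ s = 2 := by
  have hx' := orderOf_pow_orderOf_div (orderOf_pos x).ne' hx
  have hy' := orderOf_pow_orderOf_div (orderOf_pos y).ne' hy
  have ho := (hc.pow_pow (orderOf x / r) (orderOf y / s)).orderOf_mul_eq_mul_orderOf_of_coprime
    (by rw [hx', hy']; exact (Nat.coprime_primes hr hs).2 hrs)
  rw [hx', hy'] at ho
  rcases h.cases (x ^ (orderOf x / r) * y ^ (orderOf y / s)) with e | e | e | ⟨e, e'⟩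
  · rw [e, orderOf_one] at ho
    have := Nat.eq_one_of_mul_eq_one_right ho.symm
    exact absurd this hr.ne_one
  · rw [ho] at e
    exact absurd e (Nat.not_prime_mul hr.ne_one hs.ne_one)
  · rw [ho] at e
    have h1 : r ∣ 2 * p := ⟨s, e.symm⟩
    rcases hr.dvd_mul.1 h1 with h2 | h2
    · obtain rfl := (Nat.prime_dvd_prime_iff_eq hr Nat.prime_two).1 h2
      exact Or.inl ⟨rfl, Nat.eq_of_mul_eq_mul_left two_pos e⟩
    · obtain rfl := (Nat.prime_dvd_prime_iff_eq hr h.hp).1 h2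
      exact Or.inr ⟨rfl, Nat.eq_of_mul_eq_mul_left hr.pos (e.trans (mul_comm _ _))⟩
  · exfalso
    rw [ho] at e e'
    rcases hr2 with rfl | rfl
    · exact Nat.not_even_iff_odd.2 e (even_two_mul s)
    · exact e' (dvd_mul_right r s)

/-- An odd-order element commuting with an involution has order `p`. -/
theorem orderOf_eq_p {s g : G} (hs : orderOf s = 2) (hc : Commute g s) (hg : g ≠ 1)
    (hodd : Odd (orderOf g)) : orderOf g = p := by
  obtain ⟨q, hq, hqd⟩ := Nat.exists_prime_and_dvd (fun e => hg (orderOf_eq_one_iff.1 e) : orderOf g ≠ 1)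
  have hne : q ≠ 2 := fun e => by
    subst e
    exact Nat.not_even_iff_odd.2 hodd (even_iff_two_dvd.2 hqd)
  rcases h.primes_of_commute hc.symm Nat.prime_two hq hne.symm (Or.inl rfl) (hs ▸ dvd_rfl) hqd with e | e
  · rcases h.cases_p (e.2 ▸ hqd) with e' | e'
    · exact e'
    · rw [e'] at hodd
      exact absurd (even_two_mul p) (Nat.not_even_iff_odd.2 hodd)
  · exact absurd e.1.symm h.ne_two

/-- The centralizer of an element whose order involves only `2` and `p` is a `{2, p}`-group. -/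
theorem centralizer_primes {x : G} {r : ℕ} (hr : r.Prime) (hr2 : r = 2 ∨ r = p) (hx : r ∣ orderOf x)
    {q : ℕ} (hq : q.Prime) (hd : q ∣ Nat.card (centralizer ({x} : Set G))) : q = 2 ∨ q = p := by
  by_cases hqr : q = r
  · exact hqr ▸ hr2
  haveI := Fact.mk hq
  obtain ⟨⟨c, hc⟩, hco⟩ := exists_prime_orderOf_dvd_card' q hd
  rw [Subgroup.orderOf_mk] at hco
  rcases h.primes_of_commute (mem_centralizer'.1 hc).symm hr hq (Ne.symm hqr) hr2 hx (hco ▸ dvd_rfl) with e | e
  · exact Or.inr e.2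
  · exact Or.inl e.2

theorem primes_invol {s : G} (hs : orderOf s = 2) {q : ℕ} (hq : q.Prime)
    (hd : q ∣ Nat.card (centralizer ({s} : Set G))) : q = 2 ∨ q = p :=
  h.centralizer_primes Nat.prime_two (Or.inl rfl) (hs ▸ dvd_rfl) hq hd

theorem primes_p {y : G} (hy : orderOf y = p) {q : ℕ} (hq : q.Prime)
    (hd : q ∣ Nat.card (centralizer ({y} : Set G))) : q = 2 ∨ q = p :=
  h.centralizer_primes h.hp (Or.inr rfl) (hy ▸ dvd_rfl) hq hd

theorem isSolvable_of_primes {K : Subgroup G} (hK : ∀ q, q.Prime → q ∣ Nat.card K → q = 2 ∨ q = p) :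
    Group.IsSolvable K := by
  refine Hall.Converse.isSolvable_of_card_primeFactors_le_two ?_
  refine (Finset.card_le_card (t := {2, p}) fun q hq => ?_).trans Finset.card_le_two
  obtain ⟨h1, h2, -⟩ := Nat.mem_primeFactors.1 hq
  simpa using hK q h1 h2

/-- A subgroup of odd order in a `{2, p}`-group is a `p`-group. -/
theorem isPGroup_of_odd {K O : Subgroup G} (hOK : O ≤ K)
    (hK : ∀ q, q.Prime → q ∣ Nat.card K → q = 2 ∨ q = p) (hO : ¬ 2 ∣ Nat.card O) : IsPGroup p O := by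
  haveI := Fact.mk h.hp
  refine IsPGroup.of_card (n := (Nat.card O).primeFactorsList.length)
    (Nat.eq_prime_pow_of_unique_prime_dvd Nat.card_pos.ne' fun {d} hd hdO => ?_)
  rcases hK d hd (hdO.trans (card_dvd_of_le hOK)) with rfl | e
  · exact absurd hdO hO
  · exact e

/-- In a `{2, p}`-subgroup the image of a Sylow 2-subgroup modulo the odd core is self-centralising
and normal. -/
theorem core_facts {K : Subgroup G} (hK : ∀ q, q.Prime → q ∣ Nat.card K → q = 2 ∨ q = p) (S : Sylow 2 K) :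
    centralizer ((S : Subgroup K).map (QuotientGroup.mk' (Cfsg.pPrimeCore 2 K)) : Set (↥K ⧸ Cfsg.pPrimeCore 2 K)) ≤
        (S : Subgroup K).map (QuotientGroup.mk' (Cfsg.pPrimeCore 2 K)) ∧
      ((S : Subgroup K).map (QuotientGroup.mk' (Cfsg.pPrimeCore 2 K))).Normal := by
  haveI : Fact (Nat.Prime 2) := ⟨Nat.prime_two⟩
  haveI := h.isSolvable_of_primes hK
  set O := Cfsg.pPrimeCore 2 K with hO
  haveI : O.Normal := Cfsg.pPrimeCore_normal 2 K
  haveI : Group.IsSolvable (↥K ⧸ O) := Group.isSolvable_of_surjective (QuotientGroup.mk'_surjective O)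
  set TQ : Sylow 2 (↥K ⧸ O) := S.mapSurjective (QuotientGroup.mk'_surjective O) with hTQ
  have hcore := SylowInter.Basic.centralizer_pCore_le (G := ↥K ⧸ O) 2
    (Cores.pPrimeCore_quotient_pPrimeCore (G := ↥K) 2)
  have hle : Cfsg.pCore 2 (↥K ⧸ O) ≤ (TQ : Subgroup _) := Cores.pCore_le_sylow TQ
  have heq : (TQ : Subgroup _) = Cfsg.pCore 2 (↥K ⧸ O) := by
    refine le_antisymm (fun z hz => hcore ?_) hle
    rw [mem_centralizer_iff]
    intro c hc
    obtain ⟨z', hz', rfl⟩ := hz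
    obtain ⟨c', hc', rfl⟩ := hle hc
    rw [← map_mul, ← map_mul]
    congr 1
    exact Subtype.ext (h.comm_of_mem (S.2.map K.subtype) (mem_map_of_mem _ hc') (mem_map_of_mem _ hz'))
  have hTQ' : (TQ : Subgroup _) = (S : Subgroup K).map (QuotientGroup.mk' O) := Sylow.coe_mapSurjective _ S
  rw [← hTQ', heq]
  exact ⟨hcore, Cfsg.pCore_normal 2 _⟩

/-- A `{2, p}`-subgroup is its odd core times the normaliser of a Sylow 2-subgroup. -/
theorem exists_mul_sylow {K : Subgroup G} (hK : ∀ q, q.Prime → q ∣ Nat.card K → q = 2 ∨ q = p)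
    (S : Sylow 2 K) {k : G} (hk : k ∈ K) :
    ∃ o ∈ Balance.coreIn 2 K, ∃ n ∈ K,
      n ∈ normalizer (((S : Subgroup K).map K.subtype : Subgroup G) : Set G) ∧ k = o * n := by
  haveI : Fact (Nat.Prime 2) := ⟨Nat.prime_two⟩
  obtain ⟨-, hnor⟩ := h.core_facts hK S
  set O := Cfsg.pPrimeCore 2 K with hO
  haveI : O.Normal := Cfsg.pPrimeCore_normal 2 K
  set N := (S : Subgroup K) ⊔ O with hN
  have hNeq : N = ((S : Subgroup K).map (QuotientGroup.mk' O)).comap (QuotientGroup.mk' O) := by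
    rw [comap_map_eq, QuotientGroup.ker_mk']
  haveI : N.Normal := by rw [hNeq]; exact hnor.comap _
  have htop := Sylow.normalizer_sup_eq_top' (N := N) S le_sup_left
  have htop' : O ⊔ normalizer ((S : Subgroup K) : Set K) = ⊤ := by
    rw [eq_top_iff, ← htop]
    exact sup_le le_sup_right (sup_le (le_normalizer.trans le_sup_right) le_sup_left)
  have hkm : (⟨k, hk⟩ : K) ∈ O ⊔ normalizer ((S : Subgroup K) : Set K) := htop' ▸ mem_top _
  obtain ⟨o, ho, n, hn, e⟩ := mem_sup_of_normal_left.1 hkm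
  exact ⟨o, ⟨o, ho, rfl⟩, n, n.2, le_normalizer_map K.subtype ⟨n, hn, rfl⟩, (congrArg Subtype.val e).symm⟩

theorem exists_mul_normalizer (T : Sylow 2 G) {K : Subgroup G} (hTK : (T : Subgroup G) ≤ K)
    (hK : ∀ q, q.Prime → q ∣ Nat.card K → q = 2 ∨ q = p) {k : G} (hk : k ∈ K) :
    ∃ o ∈ Balance.coreIn 2 K, ∃ n ∈ K, n ∈ normalizer ((T : Subgroup G) : Set G) ∧ k = o * n := by
  obtain ⟨o, ho, n, hn, hnn, e⟩ := h.exists_mul_sylow hK (T.subtype hTK) hk
  refine ⟨o, ho, n, hn, ?_, e⟩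
  rwa [Sylow.coe_subtype, subgroupOf_map_subtype, inf_eq_left.2 hTK] at hnn

/-- An odd-order subgroup normalised by the Sylow 2-subgroup lies in the odd core. -/
theorem le_core_of_invariant (T : Sylow 2 G) {K D : Subgroup G} (hTK : (T : Subgroup G) ≤ K)
    (hK : ∀ q, q.Prime → q ∣ Nat.card K → q = 2 ∨ q = p) (hDK : D ≤ K) (hD : Odd (Nat.card D))
    (hTD : (T : Subgroup G) ≤ normalizer (D : Set G)) : D ≤ Balance.coreIn 2 K := by
  haveI : Fact (Nat.Prime 2) := ⟨Nat.prime_two⟩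
  obtain ⟨hcen, -⟩ := h.core_facts hK (T.subtype hTK)
  set O := Cfsg.pPrimeCore 2 K with hO
  haveI : O.Normal := Cfsg.pPrimeCore_normal 2 K
  set f := QuotientGroup.mk' O with hf
  set TK : Subgroup K := ((T.subtype hTK : Sylow 2 K) : Subgroup K) with hTKdef
  have h2 : IsPGroup 2 (TK.map f) := (T.subtype hTK).2.map f
  intro x hx
  suffices hker : f ⟨x, hDK hx⟩ = 1 by
    exact ⟨⟨x, hDK hx⟩, (QuotientGroup.eq_one_iff _).1 hker, rfl⟩
  set DQ := (D.subgroupOf K).map f with hDQ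
  have hoddQ : Odd (Nat.card DQ) :=
    hD.of_dvd_nat ((card_map_dvd _ f).trans (Nat.card_congr (subgroupOfEquivOfLe hDK).toEquiv).dvd)
  have hcop : Disjoint DQ (TK.map f) := by
    refine disjoint_of_coprime_natCard ?_
    obtain ⟨a, ha⟩ := IsPGroup.iff_card.1 h2
    rw [ha]
    exact (Nat.coprime_two_right.2 hoddQ).pow_right a
  have hxQ : f ⟨x, hDK hx⟩ ∈ DQ := mem_map_of_mem f (mem_subgroupOf.2 hx)
  have hnorm := (h.core_facts hK (T.subtype hTK)).2
  have hmem : f ⟨x, hDK hx⟩ ∈ TK.map f := by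
    refine hcen (mem_centralizer_iff.2 ?_)
    rintro _ ⟨⟨t, htK⟩, htT, rfl⟩
    have htT' : t ∈ (T : Subgroup G) := htT
    have e : f ⟨t, htK⟩ * f ⟨x, hDK hx⟩ * (f ⟨t, htK⟩)⁻¹ * (f ⟨x, hDK hx⟩)⁻¹ = 1 := by
      refine Subgroup.disjoint_def.1 hcop (mul_mem ?_ (inv_mem hxQ)) ?_
      · rw [← map_inv, ← map_mul, ← map_mul]
        exact mem_map_of_mem f (mem_subgroupOf.2 ((mem_normalizer_iff.1 (hTD htT') x).1 hx))
      · rw [mul_assoc, mul_assoc]
        refine mul_mem (mem_map_of_mem f htT) ?_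
        rw [← mul_assoc]
        exact hnorm.conj_mem _ (inv_mem (mem_map_of_mem f htT)) _
    rwa [mul_inv_eq_one, mul_inv_eq_iff_eq_mul] at e
  exact Subgroup.disjoint_def.1 hcop hxQ hmem

/-- If the odd core lies in `N(T)`, so does the whole `{2, p}`-subgroup. -/
theorem le_normalizer_of_core (T : Sylow 2 G) {K : Subgroup G} (hTK : (T : Subgroup G) ≤ K)
    (hK : ∀ q, q.Prime → q ∣ Nat.card K → q = 2 ∨ q = p)
    (hO : Balance.coreIn 2 K ≤ normalizer ((T : Subgroup G) : Set G)) :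
    K ≤ normalizer ((T : Subgroup G) : Set G) := by
  intro k hk
  obtain ⟨o, ho, n, -, hn, rfl⟩ := h.exists_mul_normalizer T hTK hK hk
  exact mul_mem (hO ho) hn

end Two

end Cfsg.Agent.Lib.OneComposite
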