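import Cfsg.Agent.Lib.OneComposite.Strong
import Cfsg.Agent.Lib.BenderOne8.TwoTrans
import Cfsg.Agent.Lib.BenderOne.Assemble
import Cfsg.Agent.Lib.BenderSuzuki.Main
import Cfsg.Agent.Lib.Cores.InvariantSylow

/-!
# All involution centralizers inside `C(T)`: a contradiction

Without elements of order `p` in `N(T) ∖ C(T)` the group `C(T)` would be a regular normal subgroup
of `N(T)` on the other points, against Suzuki's theorem; otherwise a swapper
inverts such an element and then an element of the core of `C(T)`.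

Owner: helper73.
-/

set_option autoImplicit false
set_option linter.style.haveILetI false
set_option linter.unusedSectionVars false

namespace Cfsg.Agent.Lib.OneComposite

open Subgroup Cfsg.Agent.Lib.Involutions.Basic
open Cfsg.Agent.Lib.BenderOne20 (invAt pairStab swapSet)

variable {G : Type*} [Group G] [Finite G] {p : ℕ}

theorem smul_one_coset_iff {H : Subgroup G} {g : G} :
    g • ((1 : G) : G ⧸ H) = ((1 : G) : G ⧸ H) ↔ g ∈ H := by
  rw [Involutions.StronglyEmbedded.smul_coset_eq_iff, inv_one, one_mul, mul_one]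

/-- A fixed-point-free involution inverts everything. -/
theorem inverts_of_fpf {C : Subgroup G} {u : G} (hu : orderOf u = 2)
    (hC : ∀ z ∈ C, u * z * u⁻¹ ∈ C) (hfpf : ∀ z ∈ C, u * z * u⁻¹ = z → z = 1) {z : G} (hz : z ∈ C) :
    u * z * u⁻¹ = z⁻¹ := by
  let φ : C → C := fun w => ⟨(w : G)⁻¹ * (u * w * u⁻¹), C.mul_mem (C.inv_mem w.2) (hC w w.2)⟩
  have hinj : Function.Injective φ := by
    intro a b e
    have e' : (a : G)⁻¹ * (u * a * u⁻¹) = (b : G)⁻¹ * (u * b * u⁻¹) := congrArg Subtype.val e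
    have h1 : u * ((b : G) * (a : G)⁻¹) * u⁻¹ = (b : G) * (a : G)⁻¹ := by
      calc u * ((b : G) * (a : G)⁻¹) * u⁻¹
          = (b : G) * ((b : G)⁻¹ * (u * b * u⁻¹)) * (u * (a : G)⁻¹ * u⁻¹) := by group
        _ = (b : G) * ((a : G)⁻¹ * (u * a * u⁻¹)) * (u * (a : G)⁻¹ * u⁻¹) := by rw [e']
        _ = _ := by group
    exact Subtype.ext (mul_inv_eq_one.1 (hfpf _ (C.mul_mem b.2 (C.inv_mem a.2)) h1)).symm
  obtain ⟨w, hw⟩ := (Finite.injective_iff_surjective.1 hinj) ⟨z, hz⟩
  have hw' : (w : G)⁻¹ * (u * w * u⁻¹) = z := congrArg Subtype.val hw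
  rw [← hw']
  calc u * ((w : G)⁻¹ * (u * w * u⁻¹)) * u⁻¹ = u * (w : G)⁻¹ * u⁻¹ * ((u * u) * w * (u * u)⁻¹) := by group
    _ = u * (w : G)⁻¹ * u⁻¹ * w := by rw [invol_mul_self hu, one_mul, inv_one, mul_one]
    _ = ((w : G)⁻¹ * (u * w * u⁻¹))⁻¹ := by group

namespace Two

variable (h : Two p G) (T : Sylow 2 G) (hc : CoreNormal T) (h4 : 4 ≤ Nat.card (T : Subgroup G))
  (hI : ∀ s ∈ (T : Subgroup G), s ≠ 1 →
    centralizer ({s} : Set G) ≤ centralizer ((T : Subgroup G) : Set G))
  [IsSimpleGroup G]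
include h hc h4 hI

/-- An element of order `p` commuting with an involution is conjugate into the core of `C(T)`. -/
theorem exists_conj_core {y u : G} (hy : orderOf y = p) (hu : orderOf u = 2) (hcomm : Commute y u) :
    ∃ g : G, g * u * g⁻¹ ∈ (T : Subgroup G) ∧
      g * y * g⁻¹ ∈ Balance.coreIn 2 (centralizer ((T : Subgroup G) : Set G)) := by
  obtain ⟨g, hg⟩ := h.exists_conj_mem T hu
  refine ⟨g, hg, h.mem_core T hc h4 (hI _ hg (fun e => invol_ne_one hu (conj_eq_one_iff.1 e)) ?_)
    ((orderOf_conj_eq g y).trans hy)⟩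
  refine mem_centralizer_singleton_iff.2 ?_
  calc g * y * g⁻¹ * (g * u * g⁻¹) = g * (y * u) * g⁻¹ := by group
    _ = g * (u * y) * g⁻¹ := by rw [hcomm.eq]
    _ = g * u * g⁻¹ * (g * y * g⁻¹) := by group

theorem false_of_no_outer
    (hno : ∀ y ∈ normalizer ((T : Subgroup G) : Set G), orderOf y = p →
      y ∈ centralizer ((T : Subgroup G) : Set G)) : False := by
  haveI : Fact (Nat.Prime 2) := ⟨Nat.prime_two⟩
  haveI := Fact.mk h.hp
  have hSE := h.stronglyEmbedded T hc h4
  have hOF := BenderOne20.oneFix_of_stronglyEmbedded hSE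
  set M := normalizer ((T : Subgroup G) : Set G) with hM
  set C := centralizer ((T : Subgroup G) : Set G) with hC
  obtain ⟨s, hs, hs1⟩ := h.exists_invol_mem T hc h4
  have hCs : centralizer ({s} : Set G) = C := le_antisymm (hI s hs hs1) fun x hx =>
    mem_centralizer_singleton_iff.2 (mem_centralizer_iff.1 hx s hs).symm
  have hCM : C ≤ M := Subgroup.centralizer_le_normalizer _
  -- `C` acts freely on the other points
  have hfree : ∀ g : G, g ∉ M → ∀ q ∈ C, g⁻¹ * (q * g) ∈ M → q = 1 := by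
    intro g hg q hq hqg
    by_contra hq1
    obtain ⟨l, hl, hld⟩ := Nat.exists_prime_and_dvd (fun e => hq1 (orderOf_eq_one_iff.1 e) : orderOf q ≠ 1)
    set w := q ^ (orderOf q / l) with hw
    have hwo : orderOf w = l := orderOf_pow_orderOf_div (orderOf_pos q).ne' hld
    have hwC : w ∈ C := pow_mem hq _
    have hwg : g⁻¹ * w * g ∈ M := by
      have := pow_mem hqg (orderOf q / l)
      rwa [← mul_assoc, show g⁻¹ * q * g = g⁻¹ * q * g⁻¹⁻¹ by rw [inv_inv], conj_pow, inv_inv] at this
    rcases h.primes_mem T hs hs1 hl (hld.trans (Subgroup.orderOf_dvd_natCard _ (hCs.symm ▸ hq))) with e | e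
    · exact hg (inv_mem_iff.1 (Involutions.StronglyEmbedded.mem_of_conj_mem hSE (hwo.trans e) (g := g⁻¹)
        (hCM hwC) (by rwa [inv_inv])))
    · have hco : orderOf (g⁻¹ * w * g) = p := by
        have := orderOf_conj_eq g⁻¹ w
        rw [inv_inv] at this
        rw [this, hwo, e]
      have hW := h.mem_core T hc h4 (hno _ hwg hco) hco
      have hne : g⁻¹ * w * g ≠ 1 := fun e' => by
        rw [e', orderOf_one] at hco
        exact h.hp.ne_one hco.symm
      have hsg : g⁻¹ * s * g ∈ M := by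
        refine h.centralizer_core_le T hc h4 hW hne (mem_centralizer_singleton_iff.2 ?_)
        calc g⁻¹ * s * g * (g⁻¹ * w * g) = g⁻¹ * (s * w) * g := by group
          _ = g⁻¹ * (w * s) * g := by rw [mem_centralizer_iff.1 hwC s hs]
          _ = g⁻¹ * w * g * (g⁻¹ * s * g) := by group
      exact hg (inv_mem_iff.1 (Involutions.StronglyEmbedded.mem_of_conj_mem hSE
        (h.orderOf_invol T.2 hs hs1) (g := g⁻¹) (le_normalizer hs) (by rwa [inv_inv])))
  -- the two point stabilisers have order `|T| - 1`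
  set a : G ⧸ M := ((1 : G) : G ⧸ M) with ha
  set m := Nat.card (invAt G a) with hm
  have hMc : Nat.card M = m * Nat.card C := hCs ▸ h.card_normalizer T hc h4 hs hs1
  have hD : ∀ g : G, g ∉ M → Nat.card (pairStab G a (g : G ⧸ M)) = m := by
    intro g hg
    have hab : a ≠ (g : G ⧸ M) := fun e => (BenderOne.ne_one_iff.2 hg) e.symm
    obtain ⟨u, hu⟩ := hOF.swapSet_nonempty hab
    have hX : pairStab G a (g : G ⧸ M) ⊓ centralizer ({u} : Set G) = ⊥ := by
      rw [Subgroup.eq_bot_iff_forall]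
      rintro d ⟨hdD, hdu⟩
      by_contra hd1
      have hdM : d ∈ M := smul_one_coset_iff.1 hdD.1
      have hdo := h.orderOf_eq_p hu.1 (mem_centralizer_singleton_iff.1 hdu) hd1
        ((hOF.odd_pairStab hab).of_dvd_nat (Subgroup.orderOf_dvd_natCard _ hdD))
      refine hd1 (hfree g hg d (hno d hdM hdo) ?_)
      have := Involutions.StronglyEmbedded.smul_coset_eq_iff.1 hdD.2
      rwa [mul_assoc] at this
    rw [hOF.card_pairStab_swap hab hu, hX, Subgroup.card_bot, mul_one]
  -- `C` is regular on the other points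
  have hTT := BenderOne8.twoTrans_of_noBad hSE (h.hasFour T hc h4) (h.noBad T hc h4)
  have hR : BenderOne.Regular M C :=
    { le := hCM
      conj_mem := fun k hk q hq => (coe_normalizer_conj (mem_normalizer_centralizer hk)).2 hq
      free := hfree
      trans := fun g g' hg hg' => by
        obtain ⟨k, hk, hkM⟩ := hTT g g' hg hg'
        let φ : ↥C × ↥(pairStab G a (g : G ⧸ M)) → M := fun q =>
          ⟨(q.1 : G) * q.2, mul_mem (hCM q.1.2) (smul_one_coset_iff.1 q.2.2.1)⟩
        have hinj : Function.Injective φ := by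
          rintro ⟨t, d⟩ ⟨t', d'⟩ e
          have e' : (t : G) * d = t' * d' := congrArg Subtype.val e
          have e1 : (t' : G)⁻¹ * t = (d' : G) * (d : G)⁻¹ := by
            rw [eq_mul_inv_iff_mul_eq, mul_assoc, e', inv_mul_cancel_left]
          have h1 : (t' : G)⁻¹ * t = 1 := by
            refine hfree g hg _ (mul_mem (inv_mem t'.2) t.2) ?_
            have hmem : (t' : G)⁻¹ * t ∈ pairStab G a (g : G ⧸ M) := e1 ▸ mul_mem d'.2 (inv_mem d.2)
            have := Involutions.StronglyEmbedded.smul_coset_eq_iff.1 hmem.2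
            rwa [mul_assoc] at this
          have ht : t' = t := Subtype.ext (inv_mul_eq_one.1 h1)
          subst ht
          exact Prod.ext rfl (Subtype.ext (mul_left_cancel e'))
        have hbij : Function.Bijective φ :=
          (Nat.bijective_iff_injective_and_card φ).2 ⟨hinj, by
            rw [Nat.card_prod, hD g hg, hMc, mul_comm]⟩
        obtain ⟨⟨t, d⟩, e⟩ := hbij.2 ⟨k, hk⟩
        have e' : (t : G) * d = k := congrArg Subtype.val e
        have hd : g⁻¹ * d * g ∈ M := Involutions.StronglyEmbedded.smul_coset_eq_iff.1 d.2.2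
        refine ⟨t, t.2, ?_⟩
        have := mul_mem hkM (inv_mem hd)
        rw [← e'] at this
        simpa [mul_assoc] using this }
  obtain ⟨u, hu, huM⟩ := BenderOne.exists_invol_not_mem hSE
  have hcore : M.normalCore = ⊥ :=
    (Subgroup.normalCore_normal M).eq_bot_or_eq_top.resolve_right fun e =>
      hSE.1 (top_le_iff.1 (e ▸ Subgroup.normalCore_le M))
  have hgood := (BenderSuzuki.propMain G (G ⧸ M) _ u C
    (BenderOne.hyp hSE (h.hasFour T hc h4) hcore hR hu huM)).1
  obtain ⟨x, hx⟩ := h.ex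
  obtain ⟨h1, h2, -⟩ := h.parts hx
  obtain ⟨k, -, hkW⟩ := h.exists_conj_core T hc h4 hI h2 h1 ((Commute.refl x).pow_pow 2 p)
  obtain ⟨j, hj⟩ := IsPGroup.iff_card.1 hgood
  have hd := hj ▸ Subgroup.orderOf_dvd_natCard C (Balance.coreIn_le _ hkW)
  rw [orderOf_conj_eq k, h2] at hd
  exact h.ne_two ((Nat.prime_dvd_prime_iff_eq h.hp Nat.prime_two).1 (h.hp.dvd_of_dvd_pow hd))

theorem false_of_outer {y : G} (hy : y ∈ normalizer ((T : Subgroup G) : Set G)) (hyp : orderOf y = p)
    (hyC : y ∉ centralizer ((T : Subgroup G) : Set G)) : False := by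
  haveI : Fact (Nat.Prime 2) := ⟨Nat.prime_two⟩
  haveI := Fact.mk h.hp
  have hy1 : y ≠ 1 := fun e => hyC (e ▸ one_mem _)
  have hSE := h.stronglyEmbedded T hc h4
  have hOF := BenderOne20.oneFix_of_stronglyEmbedded hSE
  -- `p` divides `|T| - 1`
  have hfix : (T : Subgroup G) ⊓ centralizer (zpowers y : Set G) = ⊥ := by
    rw [Subgroup.eq_bot_iff_forall]
    rintro x ⟨hx, hxc⟩
    by_contra hx1
    exact hyC (hI x hx hx1 (mem_centralizer_singleton_iff.2
      (mem_centralizer_iff.1 hxc y (mem_zpowers y))))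
  have hmod := modEq_inf_centralizer (isPGroup_zpowers hyp) ((zpowers_le).2 hy)
  rw [hfix, Subgroup.card_bot, ← h.card_invAt_add_one T hc h4] at hmod
  have hpm : p ∣ Nat.card (invAt G ((1 : G) : G ⧸ normalizer ((T : Subgroup G) : Set G))) :=
    Nat.modEq_zero_iff_dvd.1 (Nat.ModEq.add_right_cancel' 1 hmod)
  -- the core of `C(T)` is non-trivial
  set W := Balance.coreIn 2 (centralizer ((T : Subgroup G) : Set G)) with hWdef
  obtain ⟨x, hx⟩ := h.ex
  obtain ⟨h1, h2, -⟩ := h.parts hx
  obtain ⟨k, -, hkW⟩ := h.exists_conj_core T hc h4 hI h2 h1 ((Commute.refl x).pow_pow 2 p)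
  have hpW : p ∣ Nat.card W := by
    have := Subgroup.orderOf_dvd_natCard W hkW
    rwa [orderOf_conj_eq k, h2] at this
  -- a swapper and its two point stabiliser
  set a : G ⧸ normalizer ((T : Subgroup G) : Set G) :=
    ((1 : G) : G ⧸ normalizer ((T : Subgroup G) : Set G)) with ha
  haveI := hOF.nontrivial
  obtain ⟨b, hb⟩ := exists_ne a
  obtain ⟨u, hu⟩ := hOF.swapSet_nonempty hb.symm
  have huD : zpowers u ≤ normalizer (pairStab G a b : Set G) := by
    refine (zpowers_le).2 ?_
    rw [mem_normalizer_iff]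
    intro z
    have hua : u • a = b := hu.2
    have hub : u • b = a := BenderOne20.smul_swap hu
    simp only [mem_inf, MulAction.mem_stabilizer_iff, mul_smul, invol_inv hu.1, hua, hub]
    constructor
    · rintro ⟨za, zb⟩
      exact ⟨by rw [zb, hub], by rw [za, hua]⟩
    · rintro ⟨zb, za⟩
      constructor
      · have := congrArg (fun w => u • w) za
        simpa only [smul_smul u u, invol_mul_self hu.1, one_smul, hub] using this
      · have := congrArg (fun w => u • w) zb
        simpa only [smul_smul u u, invol_mul_self hu.1, one_smul, hua] using this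
  have hDodd := hOF.odd_pairStab hb.symm
  obtain ⟨Q, hQD, hQp, hQi, hQu⟩ := Cores.InvariantSylow.exists_invariant huD
    (by rw [Nat.card_zpowers, hu.1]; exact Nat.coprime_two_left.2 hDodd)
    (Or.inl inferInstance) p
  obtain ⟨q, hqQ, hqu⟩ : ∃ q ∈ Q, u * q * u⁻¹ ≠ q := by
    by_contra hne
    push Not at hne
    refine hQi (dvd_trans ?_ (Subgroup.relIndex_dvd_of_le_left _ (le_inf hQD fun z hz =>
      mem_centralizer_singleton_iff.2 (mul_inv_eq_iff_eq_mul.1 (hne z hz)).symm :
        Q ≤ pairStab G a b ⊓ centralizer ({u} : Set G))))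
    have hcard := hOF.card_pairStab_swap hb.symm hu
    have hmul := Subgroup.card_mul_index ((pairStab G a b ⊓ centralizer ({u} : Set G)).subgroupOf (pairStab G a b))
    rw [← Subgroup.relIndex, Nat.card_congr (subgroupOfEquivOfLe inf_le_left).toEquiv, hcard,
      mul_comm] at hmul
    rw [Nat.eq_of_mul_eq_mul_right Nat.card_pos hmul]
    exact hpm
  set d := q⁻¹ * (u * q * u⁻¹) with hd
  have hdQ : d ∈ Q :=
    mul_mem (inv_mem hqQ) ((coe_normalizer_conj (hQu (mem_zpowers u))).2 hqQ)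
  have hd1 : d ≠ 1 := fun e => hqu (inv_mul_eq_one.1 e).symm
  have hdinv : u * d * u⁻¹ = d⁻¹ := by
    calc u * (q⁻¹ * (u * q * u⁻¹)) * u⁻¹ = u * q⁻¹ * u⁻¹ * ((u * u) * q * (u * u)⁻¹) := by group
      _ = u * q⁻¹ * u⁻¹ * q := by rw [invol_mul_self hu.1, one_mul, inv_one, mul_one]
      _ = (q⁻¹ * (u * q * u⁻¹))⁻¹ := by group
  have hdo : orderOf d = p := by
    obtain ⟨j, hj⟩ := IsPGroup.iff_card.1 hQp
    have hdd := hj ▸ Subgroup.orderOf_dvd_natCard Q hdQ
    exact h.orderOf_eq_p_of_dvd hd1 hdd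
  have hdM : d ∈ normalizer ((T : Subgroup G) : Set G) := smul_one_coset_iff.1 (hQD hdQ).1
  -- `d` fixes an element of the core
  have hdW : zpowers d ≤ normalizer (W : Set G) :=
    (zpowers_le).2 (mem_normalizer_coreIn (mem_normalizer_centralizer hdM))
  have hmodW := modEq_inf_centralizer (isPGroup_zpowers hdo) hdW
  obtain ⟨z, hz, hz1⟩ := (W ⊓ centralizer (zpowers d : Set G)).bot_or_exists_ne_one.resolve_left fun e => by
    rw [e, Subgroup.card_bot] at hmodW
    have := (Nat.modEq_zero_iff_dvd.2 hpW).symm.trans hmodW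
    exact h.hp.ne_one (Nat.dvd_one.1 (Nat.modEq_zero_iff_dvd.1 this.symm))
  have hzd : z ∈ centralizer ({d} : Set G) := by rw [centralizer_zpowers]; exact hz.2
  -- the centraliser of `d` is odd and inverted by `u`
  have hno : ∀ v ∈ centralizer ({d} : Set G), orderOf v ≠ 2 := by
    intro v hv hv2
    obtain ⟨g, -, hgd⟩ := h.exists_conj_core T hc h4 hI hdo hv2 (mem_centralizer_singleton_iff.1 hv).symm
    refine h.not_inverted T hc h4 hgd (fun e => hd1 (conj_eq_one_iff.1 e))
      ((orderOf_conj_eq g u).trans hu.1) ?_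
    calc g * u * g⁻¹ * (g * d * g⁻¹) * (g * u * g⁻¹)⁻¹ = g * (u * d * u⁻¹) * g⁻¹ := by group
      _ = g * d⁻¹ * g⁻¹ := by rw [hdinv]
      _ = (g * d * g⁻¹)⁻¹ := by group
  refine h.not_inverted T hc h4 hz.1 hz1 hu.1 (inverts_of_fpf hu.1 (fun w hw => ?_) (fun w hw he => ?_) hzd)
  · refine mem_centralizer_singleton_iff.2 ?_
    have hw' := mem_centralizer_singleton_iff.1 hw
    have hd' : d = u * d⁻¹ * u⁻¹ := by
      rw [show u * d⁻¹ * u⁻¹ = (u * d * u⁻¹)⁻¹ by group, hdinv, inv_inv]
    rw [hd']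
    calc u * w * u⁻¹ * (u * d⁻¹ * u⁻¹) = u * (w * d⁻¹) * u⁻¹ := by group
      _ = u * (d⁻¹ * w) * u⁻¹ := by rw [((show Commute w d from hw').inv_right).eq]
      _ = u * d⁻¹ * u⁻¹ * (u * w * u⁻¹) := by group
  · by_contra hw1
    have hwodd : Odd (orderOf w) :=
      ((odd_card_iff_no_invol _).2 hno).of_dvd_nat (Subgroup.orderOf_dvd_natCard _ hw)
    have hcu : Commute w u := (mul_inv_eq_iff_eq_mul.1 he).symm
    obtain ⟨g, hgu, hgw⟩ := h.exists_conj_core T hc h4 hI (h.orderOf_eq_p hu.1 hcu hw1 hwodd) hu.1 hcu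
    have hgd : g * d * g⁻¹ ∈ normalizer ((T : Subgroup G) : Set G) :=
      h.centralizer_core_le T hc h4 hgw (fun e => hw1 (conj_eq_one_iff.1 e))
        (mem_centralizer_singleton_iff.2 (by
          calc g * d * g⁻¹ * (g * w * g⁻¹) = g * (d * w) * g⁻¹ := by group
            _ = g * (w * d) * g⁻¹ := by rw [mem_centralizer_singleton_iff.1 hw]
            _ = g * w * g⁻¹ * (g * d * g⁻¹) := by group))
    have hsq := h.sq_mem_of_inverted T hgu hgd (by
      calc g * u * g⁻¹ * (g * d * g⁻¹) * (g * u * g⁻¹)⁻¹ = g * (u * d * u⁻¹) * g⁻¹ := by group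
        _ = g * d⁻¹ * g⁻¹ := by rw [hdinv]
        _ = (g * d * g⁻¹)⁻¹ := by group)
    have h1 := h.eq_one_of_odd_mem T hsq (by
      rw [← pow_two]
      exact Odd.of_dvd_nat ((orderOf_conj_eq g d).trans hdo ▸ h.p_odd) (orderOf_pow_dvd 2))
    have := orderOf_dvd_of_pow_eq_one (x := g * d * g⁻¹) (n := 2) (by rw [pow_two]; exact h1)
    rw [orderOf_conj_eq, hdo] at this
    exact h.ne_two ((Nat.prime_dvd_prime_iff_eq h.hp Nat.prime_two).1 this)

theorem false_case_one : False := by
  by_cases hno : ∀ y ∈ normalizer ((T : Subgroup G) : Set G), orderOf y = p →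
      y ∈ centralizer ((T : Subgroup G) : Set G)
  · exact h.false_of_no_outer T hc h4 hI hno
  · push Not at hno
    obtain ⟨y, hy, hyp, hyC⟩ := hno
    exact h.false_of_outer T hc h4 hI hy hyp hyC

end Two

end Cfsg.Agent.Lib.OneComposite
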