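import Cfsg.Agent.Lib.OneComposite.Tools

/-!
# An element of order `p` of `N(T) ∖ C(T)` centralising an involution of `T`

Then `C(T) = T` and the order of `N(T)` is not divisible by `p ^ 2`.

Owner: helper73.
-/

set_option autoImplicit false
set_option linter.style.haveILetI false
set_option linter.unusedSectionVars false

namespace Cfsg.Agent.Lib.OneComposite

open Subgroup Cfsg.Agent.Lib.Involutions.Basic
open Cfsg.Agent.Lib.BenderOne20 (invAt)

universe u

variable {G : Type u} [Group G] [Finite G] [IsSimpleGroup G] {p : ℕ}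

namespace Two

variable (h : Two p G) (T : Sylow 2 G) (hc : CoreNormal T) (h4 : 4 ≤ Nat.card (T : Subgroup G))
  {s y : G} (hs : s ∈ (T : Subgroup G)) (hs1 : s ≠ 1) (hy : y ∈ centralizer ({s} : Set G))
  (hyp : orderOf y = p) (hyC : y ∉ centralizer ((T : Subgroup G) : Set G))
include h hc h4 hs hs1 hy hyp hyC

/-- Some prime other than `p` divides the order of `N(T) / C(T)`. -/
theorem exists_prime_ne :
    ∃ l : ℕ, l.Prime ∧ l ≠ p ∧
      l ∣ (centralizer ((T : Subgroup G) : Set G)).relIndex (normalizer ((T : Subgroup G) : Set G)) := by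
  haveI : Fact (Nat.Prime 2) := ⟨Nat.prime_two⟩
  haveI := Fact.mk h.hp
  by_contra hne
  push Not at hne
  set m := Nat.card (invAt G ((1 : G) : G ⧸ normalizer ((T : Subgroup G) : Set G))) with hm
  obtain ⟨n, hn⟩ := IsPGroup.iff_card.1 T.2
  have hm1 : m + 1 = 2 ^ n := hn ▸ h.card_invAt_add_one T hc h4
  have h4' : 4 ≤ 2 ^ n := hn ▸ h4
  have hn1 : n ≠ 0 := by
    rintro rfl
    simp at h4'
  have hM := h.card_normalizer T hc h4 hs hs1
  have hmp : ∀ l : ℕ, l.Prime → l ∣ m → l = p := by
    intro l hl hlm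
    have hlM : l ∣ Nat.card (normalizer ((T : Subgroup G) : Set G)) := hM ▸ hlm.mul_right _
    rw [← Subgroup.relIndex_bot_left, ← Subgroup.relIndex_mul_relIndex _ _ _ bot_le
      (h.centralizer_sylow_le T), Subgroup.relIndex_bot_left] at hlM
    rcases hl.dvd_mul.1 hlM with e | e
    · rcases h.primes_mem T hs hs1 hl (e.trans (card_dvd_of_le fun x hx =>
        mem_centralizer_singleton_iff.2 (mem_centralizer_iff.1 hx s hs).symm)) with e' | e'
      · subst e'
        exfalso
        obtain ⟨j, hj⟩ := hlm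
        have : Even (2 ^ n) := Nat.even_pow.2 ⟨even_two, hn1⟩
        obtain ⟨i, hi⟩ := this
        omega
      · exact e'
    · by_contra hlp
      exact hne l hl hlp e
  obtain ⟨e, he⟩ : ∃ e, m = p ^ e := ⟨_, Nat.eq_prime_pow_of_unique_prime_dvd (by omega)
    (fun {d} hd hdd => hmp d hd hdd)⟩
  have he0 : 0 < e := by
    rcases e with _ | e
    · simp at he; omega
    · omega
  have hprime : m = p := by
    rcases CIT.prime_or_nine h.hp h.p_odd he0 (m := n) (Or.inr (by omega)) with e' | e'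
    · rw [he]
      obtain rfl : e = 1 := (Nat.Prime.pow_eq_iff e').1 rfl |>.2
      exact pow_one p
    · exfalso
      rw [← he] at e'
      rcases Nat.lt_or_ge n 4 with h5 | h5
      · interval_cases n <;> omega
      · have := Nat.pow_le_pow_right (show 1 ≤ 2 by norm_num) h5
        omega
  -- `y` fixes everything
  have hyM : y ∈ normalizer ((T : Subgroup G) : Set G) := h.centralizer_invol_le T hc hs hs1 hy
  have hmod := modEq_inf_centralizer (isPGroup_zpowers hyp) ((zpowers_le).2 hyM)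
  set F := (T : Subgroup G) ⊓ centralizer (zpowers y : Set G) with hF
  have hsF : s ∈ F := ⟨hs, by
    rw [← centralizer_zpowers]
    exact mem_centralizer_singleton_iff.2 (mem_centralizer_singleton_iff.1 hy).symm⟩
  have hF2 : 2 ≤ Nat.card F := by
    have := Nat.le_of_dvd Nat.card_pos (Subgroup.orderOf_dvd_natCard F hsF)
    rwa [h.orderOf_invol T.2 hs hs1] at this
  have hFle : Nat.card F ≤ p + 1 := by
    rw [← hprime, hm1, ← hn]
    exact Nat.le_of_dvd Nat.card_pos (card_dvd_of_le inf_le_left)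
  rw [hn, ← hm1, hprime] at hmod
  have hd : p ∣ Nat.card F - 1 := by
    refine (Nat.modEq_iff_dvd' (by omega)).1 ?_
    exact (((Nat.modEq_zero_iff_dvd.2 (dvd_refl p)).add_right 1).symm.trans hmod).trans (Nat.ModEq.refl _)
  have hFcard : Nat.card F = Nat.card (T : Subgroup G) := by
    rw [hn, ← hm1, hprime]
    have := Nat.le_of_dvd (by omega) hd
    omega
  have hFT : F = (T : Subgroup G) := Subgroup.eq_of_le_of_card_ge inf_le_left hFcard.ge
  refine hyC (mem_centralizer_iff.2 fun x hx => ?_)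
  exact (mem_centralizer_iff.1 ((hFT ▸ hx : x ∈ F).2) y (mem_zpowers y)).symm

/-- `C(T) = T` and `N(T)` has Sylow `p`-subgroups of order `p`. -/
theorem small :
    centralizer ((T : Subgroup G) : Set G) ≤ (T : Subgroup G) ∧
      ¬ p ^ 2 ∣ Nat.card (normalizer ((T : Subgroup G) : Set G)) := by
  haveI : Fact (Nat.Prime 2) := ⟨Nat.prime_two⟩
  haveI := Fact.mk h.hp
  set M := normalizer ((T : Subgroup G) : Set G) with hMdef
  set C := centralizer ((T : Subgroup G) : Set G) with hCdef
  have hyM : y ∈ M := h.centralizer_invol_le T hc hs hs1 hy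
  obtain ⟨r, B, hr, hr2, hCB, hBM, hMB, e, he0, he⟩ := h.exists_chief T hyM hyC
  haveI := Fact.mk hr
  obtain ⟨R⟩ : Nonempty (Sylow r B) := inferInstance
  set R0 := (R : Subgroup B).map B.subtype with hR0
  have hRB : R0 ≤ B := map_subtype_le _
  have hdvd := relIndex_dvd_normalizer hBM hMB R
  have hRp : IsPGroup r R0 := R.2.map _
  by_cases hrp : r = p
  · exfalso
    subst hrp
    obtain ⟨l, hl, hlp, hld⟩ := h.exists_prime_ne T hc h4 hs hs1 hy hyp hyC
    haveI := Fact.mk hl
    have hl2 : l ≠ 2 := by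
      rintro rfl
      exact absurd ((h.odd_relIndex T).of_dvd_nat hld) (by decide)
    rw [← hMdef, ← hCdef, ← Subgroup.relIndex_mul_relIndex _ _ _ hCB hBM, he] at hld
    have hlM : l ∣ B.relIndex M := by
      rcases hl.dvd_mul.1 hld with e' | e'
      · exact absurd ((Nat.prime_dvd_prime_iff_eq hl hr).1 (hl.dvd_of_dvd_pow e')) hlp
      · exact e'
    obtain ⟨g0, hgo⟩ := exists_prime_orderOf_dvd_card' (G := ↥(M ⊓ normalizer (R0 : Set G))) l
      (hlM.trans hdvd)
    rw [← Subgroup.orderOf_coe] at hgo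
    have hcen := h.le_centralizer_of_elt T hRp (hRB.trans hBM) hl hl2 hlp g0.2.1 g0.2.2 hgo
    have h1 : C.relIndex B ∣ (R : Subgroup B).index := by
      rw [← relIndex_map_subtype]
      exact Subgroup.relIndex_dvd_of_le_left _ hcen
    exact R.not_dvd_index ((dvd_pow_self r he0.ne').trans (he ▸ h1))
  -- `r ≠ p`
  have hodd : Odd r := hr.odd_of_ne_two hr2
  have hrB : r ∣ Nat.card B := by
    rw [← Subgroup.relIndex_bot_left, ← Subgroup.relIndex_mul_relIndex ⊥ C B bot_le hCB, he]
    exact (dvd_pow_self r he0.ne').mul_left _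
  have hR1 : Nontrivial R0 := by
    rw [← Finite.one_lt_card_iff_nontrivial]
    have h1 : r ∣ Nat.card R0 := by
      rw [hR0, ← Nat.card_congr (equivMapOfInjective _ B.subtype B.subtype_injective).toEquiv]
      exact R.dvd_card_of_dvd_card hrB
    exact lt_of_lt_of_le hr.one_lt (Nat.le_of_dvd Nat.card_pos h1)
  set Z := (center R0).map R0.subtype with hZ
  have hZR : Z ≤ R0 := map_subtype_le _
  have hZn : ∀ {g : G}, g ∈ normalizer (R0 : Set G) → g ∈ normalizer (Z : Set G) := fun hg =>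
    mem_normalizer_char _ hg
  obtain ⟨b, hbZ, hb1⟩ := Z.bot_or_exists_ne_one.resolve_left fun e' => by
    haveI := hRp.center_nontrivial
    exact (Subgroup.nontrivial_iff_ne_bot _).1 ‹Nontrivial (center R0)›
      ((map_eq_bot_iff_of_injective _ R0.subtype_injective).1 e')
  have hZcomm : ∀ a ∈ Z, ∀ c ∈ Z, a * c = c * a := by
    rintro _ ⟨a, ha, rfl⟩ _ ⟨c, -, rfl⟩
    exact congrArg Subtype.val ((mem_center_iff.1 ha c).symm)
  have hZr : IsPGroup r Z := hRp.to_le hZR
  have hbo : ∀ c ∈ Z, c ≠ 1 → r ∣ orderOf c := by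
    intro c hc hc1
    obtain ⟨j, hj⟩ := IsPGroup.iff_card.1 hZr
    have hd := hj ▸ Subgroup.orderOf_dvd_natCard Z hc
    obtain ⟨q, hq, hqd⟩ := Nat.exists_prime_and_dvd (fun e => hc1 (orderOf_eq_one_iff.1 e) : orderOf c ≠ 1)
    rwa [← (Nat.prime_dvd_prime_iff_eq hq hr).1 (hq.dvd_of_dvd_pow (hqd.trans hd))]
  have hfree : ∀ c ∈ Z, ∀ w : G, orderOf w = p → Commute c w → c = 1 := by
    intro c hc w hw hcw
    by_contra hc1
    rcases h.primes_of_commute hcw.symm h.hp hr (Ne.symm hrp) (Or.inr rfl) (dvd_of_eq hw.symm) (hbo c hc hc1) with e' | e'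
    · exact h.ne_two e'.1
    · exact hr2 e'.2
  have hpZ : ¬ p ∣ Nat.card Z := by
    obtain ⟨j, hj⟩ := IsPGroup.iff_card.1 hZr
    rw [hj]
    exact fun hd => hrp ((Nat.prime_dvd_prime_iff_eq h.hp hr).1 (h.hp.dvd_of_dvd_pow hd)).symm
  -- `p` divides the order of the normaliser of `R0`
  have hMcard : Nat.card M = Nat.card C * (r ^ e * B.relIndex M) := by
    rw [← he, Subgroup.relIndex_mul_relIndex _ _ _ hCB hBM, ← Subgroup.relIndex_bot_left,
      ← Subgroup.relIndex_bot_left C, Subgroup.relIndex_mul_relIndex _ _ _ bot_le (h.centralizer_sylow_le T)]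
  -- the core of `C(T)` is trivial
  have hW : Balance.coreIn 2 C = ⊥ := by
    by_contra hW
    obtain ⟨w, hw, hw1⟩ := (Balance.coreIn 2 C).bot_or_exists_ne_one.resolve_left hW
    set W := Balance.coreIn 2 C with hWdef
    have hWp : IsPGroup p W := h.isPGroup_of_odd (Balance.coreIn_le _)
      (fun q hq hd => h.primes_mem T hs hs1 hq (hd.trans (card_dvd_of_le fun x hx =>
        mem_centralizer_singleton_iff.2 (mem_centralizer_iff.1 hx s hs).symm)))
      (fun hd => Nat.not_even_iff_odd.2 (h.odd_core _) (even_iff_two_dvd.2 hd))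
    have hMW : M ≤ normalizer (W : Set G) := fun m hm =>
      mem_normalizer_coreIn (mem_normalizer_centralizer hm)
    haveI : (B.subgroupOf M).Normal := (normal_subgroupOf_iff_le_normalizer hBM).2 hMB
    haveI : (C.subgroupOf B).Normal := (normal_subgroupOf_iff_le_normalizer hCB).2 fun m hm =>
      mem_normalizer_centralizer (hBM hm)
    have hyB : y ∉ B := fun hyB => by
      have h1 : y ^ r ^ e ∈ C := by
        rw [← he]
        exact mem_subgroupOf.1 (Subgroup.pow_index_mem (C.subgroupOf B) ⟨y, hyB⟩)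
      obtain ⟨j, hj⟩ := exists_pow_eq_self_of_coprime (x := y) (n := r ^ e)
        (hyp ▸ ((Nat.coprime_primes hr h.hp).2 hrp).pow_left e)
      exact hyC (hj ▸ pow_mem h1 j)
    have hyo : orderOf (QuotientGroup.mk ⟨y, hyM⟩ : ↥M ⧸ B.subgroupOf M) = p := by
      refine orderOf_eq_prime ?_ fun e' => hyB (mem_subgroupOf.1 ((QuotientGroup.eq_one_iff _).1 e'))
      rw [← QuotientGroup.mk_pow, QuotientGroup.eq_one_iff]
      exact mem_subgroupOf.2 (by
        show y ^ p ∈ B
        rw [← hyp, pow_orderOf_eq_one]; exact one_mem B)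
    obtain ⟨g0, hgo⟩ := exists_prime_orderOf_dvd_card' (G := ↥(M ⊓ normalizer (R0 : Set G))) p
      ((hyo ▸ orderOf_dvd_natCard (QuotientGroup.mk ⟨y, hyM⟩ : ↥M ⧸ B.subgroupOf M)).trans hdvd)
    rw [← Subgroup.orderOf_coe] at hgo
    have hcen := h.centralizes (B := Z) hWp hZcomm hpZ ((hZR.trans (hRB.trans hBM)).trans hMW) h.hp h.p_odd
      (hMW g0.2.1) (hZn g0.2.2) hgo (fun c hc hcg => hfree c hc g0 hgo hcg)
    exact hb1 (hfree b hbZ w (h.order_core T hc h4 hw hw1) (mem_centralizer_iff.1 (hcen hbZ) w hw).symm)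
  have hCT : C ≤ (T : Subgroup G) := by
    intro c hc'
    have two : ∀ x ∈ C, orderOf x = 2 → x ∈ (T : Subgroup G) := fun x hx ho =>
      h.invol_mem T (invol_mul_self ho) (h.centralizer_sylow_le T hx)
    have nop : ∀ x ∈ C, orderOf x ≠ p := fun x hx ho => by
      have := h.mem_core T hc h4 hx ho
      rw [hW, Subgroup.mem_bot] at this
      rw [this, orderOf_one] at ho
      exact h.hp.ne_one ho.symm
    rcases h.cases_of_primes (K := centralizer ({s} : Set G)) (fun q hq hd => h.primes_mem T hs hs1 hq hd)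
      (mem_centralizer_singleton_iff.2 (mem_centralizer_iff.1 hc' s hs).symm) with e' | e' | e'
    · exact e' ▸ one_mem _
    · rcases h.primes_mem T hs hs1 e' (Subgroup.orderOf_dvd_natCard _
        (show c ∈ centralizer ({s} : Set G) from
          mem_centralizer_singleton_iff.2 (mem_centralizer_iff.1 hc' s hs).symm)) with e2 | e2
      · exact two c hc' e2
      · exact absurd e2 (nop c hc')
    · exact absurd (h.parts e').2.1 (nop _ (pow_mem hc' 2))
  refine ⟨hCT, fun hp2 => ?_⟩
  have hcop : (p ^ 2).Coprime (Nat.card C * r ^ e) := by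
    refine (Nat.Coprime.mul_right ?_ ?_).pow_left 2
    · refine h.hp.coprime_iff_not_dvd.2 fun hd => ?_
      obtain ⟨n, hn⟩ := IsPGroup.iff_card.1 T.2
      exact h.ne_two ((Nat.prime_dvd_prime_iff_eq h.hp Nat.prime_two).1
        (h.hp.dvd_of_dvd_pow (hn ▸ hd.trans (card_dvd_of_le hCT))))
    · exact ((Nat.coprime_primes h.hp hr).2 (Ne.symm hrp)).pow_right e
  rw [hMcard, ← mul_assoc] at hp2
  obtain ⟨E', hE'⟩ := Sylow.exists_subgroup_card_pow_prime (G := ↥(M ⊓ normalizer (R0 : Set G))) p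
    ((hcop.dvd_of_dvd_mul_left hp2).trans hdvd)
  set E := E'.map (M ⊓ normalizer (R0 : Set G)).subtype with hE
  have hEc : Nat.card E = p ^ 2 := by
    rw [hE, ← Nat.card_congr (equivMapOfInjective _ _ (Subgroup.subtype_injective _)).toEquiv, hE']
  have hEA : Cfsg.IsElementaryAbelian p E := by
    refine ⟨IsPGroup.isMulCommutative_of_card_eq_prime_sq hEc, fun a ha => ?_⟩
    by_cases ha1 : a = 1
    · rw [ha1, one_pow]
    have hd := hEc ▸ Subgroup.orderOf_dvd_natCard E ha
    rw [← h.orderOf_eq_p_of_dvd ha1 hd, pow_orderOf_eq_one]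
  refine hb1 (Subgroup.mem_bot.1 (Signalizer.le_of_hyp hEA
    (fun x hx => hZn (map_subtype_le E' hx).2) hpZ (fun B' hB' => ?_) hbZ))
  obtain ⟨a, ha, ha1⟩ := B'.bot_or_exists_ne_one.resolve_left fun e' => by
    have := hB'.2
    rw [e', Subgroup.relIndex_bot_left, hEc, pow_two] at this
    exact absurd this (not_le.2 (lt_mul_of_one_lt_left h.hp.pos h.hp.one_lt))
  rintro c ⟨hcZ, hcc⟩
  refine Subgroup.mem_bot.2 (hfree c hcZ a ?_ (mem_centralizer_iff.1 hcc a ha).symm)
  exact orderOf_eq_prime (hEA.2 a (hB'.1 ha)) ha1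

end Two

end Cfsg.Agent.Lib.OneComposite
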