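import Cfsg.Agent.Lib.Coprime.Commutator
import Cfsg.Agent.Lib.PGroups.Frattini

/-!
# A norm lemma

If every element of the coset `W B g` of the `p`-group `W` has `l`-th power one, `l` a prime,
and `g` normalises `B`, then `B` centralises `W` (coprime orders).

Owner: helper73.
-/

set_option autoImplicit false
set_option linter.style.haveILetI false

namespace Cfsg.Agent.Lib.OneComposite

open Subgroup Finset

variable {G : Type*} [Group G]

/-- The product of the conjugates: the norm of `x` along `h`. -/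
theorem prod_conj_eq {V : Subgroup G} {h x : G} (hh : h ∈ normalizer (V : Set G)) (hx : x ∈ V) :
    ∀ n : ℕ, ((List.range n).map fun i => h ^ i * x * (h ^ i)⁻¹).prod * h ^ n = (x * h) ^ n ∧
      ∀ y ∈ (List.range n).map (fun i => h ^ i * x * (h ^ i)⁻¹), y ∈ V := by
  intro n
  refine ⟨?_, ?_⟩
  · induction n with
    | zero => simp
    | succ n ih =>
      rw [List.range_succ, List.map_append, List.prod_append, pow_succ (x * h), ← ih, pow_succ h]
      simp only [List.map_cons, List.map_nil, List.prod_cons, List.prod_nil, mul_one]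
      group
  · intro y hy
    obtain ⟨i, -, rfl⟩ := List.mem_map.1 hy
    exact (mem_normalizer_iff.1 (pow_mem hh i) x).1 hx

theorem conj_mem_normalizer_of_map_eq {H : Subgroup G} {g : G}
    (h : H.map (MulAut.conj g).toMonoidHom = H) : g ∈ normalizer (H : Set G) := by
  rw [mem_normalizer_iff]
  refine fun z => ⟨fun hz => ?_, fun hz => ?_⟩
  · rw [← h]
    exact ⟨z, hz, rfl⟩
  · rw [← h] at hz
    obtain ⟨w, hw, hwz⟩ := hz
    obtain rfl : w = z := (MulAut.conj g).injective hwz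
    exact hw

/-- The abelian case. -/
theorem centralizes_of_norm_comm [Finite G] {B V : Subgroup G} [IsMulCommutative V] {g : G} {l : ℕ}
    (hl : l.Prime) (hBV : B ≤ normalizer (V : Set G)) (hgV : g ∈ normalizer (V : Set G))
    (hgB : g ∈ normalizer (B : Set G)) (hcop : (Nat.card B).Coprime (Nat.card V))
    (hVl : ∀ x ∈ V, ∀ b ∈ B, (x * (b * g)) ^ l = 1) {b : G} (hb : b ∈ B) {x : G} (hx : x ∈ V) :
    b * x = x * b := by
  classical
  haveI := Fintype.ofFinite B
  have hBl : ∀ c ∈ B, (c * g) ^ l = 1 := fun c hc => by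
    have := hVl 1 (one_mem V) c hc
    rwa [one_mul] at this
  have hgl : g ^ l = 1 := by
    have := hBl 1 (one_mem B)
    rwa [one_mul] at this
  have hcgN : ∀ c : B, (c : G) * g ∈ normalizer (V : Set G) := fun c => mul_mem (hBV c.2) hgV
  have hcgB : ∀ c : B, (c : G) * g ∈ normalizer (B : Set G) := fun c => mul_mem (le_normalizer c.2) hgB
  -- `(c g) ^ i g ^ (-i)` lies in `B`
  have hcomp : ∀ (i : ℕ) (c : B), ((c : G) * g) ^ i * (g ^ i)⁻¹ ∈ B := by
    intro i c
    induction i with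
    | zero => simp
    | succ i ih =>
      have : ((c : G) * g) ^ (i + 1) * (g ^ (i + 1))⁻¹ =
          (c : G) * (g * (((c : G) * g) ^ i * (g ^ i)⁻¹) * g⁻¹) := by
        rw [pow_succ', pow_succ']; group
      rw [this]
      exact mul_mem c.2 ((mem_normalizer_iff.1 hgB _).1 ih)
  set φ : ℕ → B → B := fun i c => ⟨_, hcomp i c⟩ with hφ
  have hbij : ∀ i, 0 < i → i < l → Function.Bijective (φ i) := by
    intro i hi0 hil
    refine Finite.injective_iff_bijective.1 fun c d e => ?_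
    have e' : ((c : G) * g) ^ i = ((d : G) * g) ^ i := mul_right_cancel (congrArg Subtype.val e)
    obtain ⟨j, hj⟩ : ∃ j, i * j % l = 1 := by
      obtain ⟨j, -, hj⟩ := Nat.exists_mul_mod_eq_one_of_coprime
        ((hl.coprime_iff_not_dvd.2 fun hd => absurd (Nat.le_of_dvd hi0 hd) (by omega)).symm) hl.one_lt
      exact ⟨j, hj⟩
    have key : ∀ c : B, (((c : G) * g) ^ i) ^ j = (c : G) * g := by
      intro c
      rw [← pow_mul, ← Nat.mod_add_div (i * j) l, hj, pow_add, pow_mul, hBl _ c.2, one_pow, mul_one,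
        pow_one]
    exact Subtype.ext (mul_right_cancel (((key c).symm.trans (by rw [e'])).trans (key d)))
  -- conjugation, in the commutative group `V`
  let cj : (y : G) → y ∈ normalizer (V : Set G) → V → V := fun y hy v =>
    ⟨y * v * y⁻¹, (mem_normalizer_iff.1 hy v).1 v.2⟩
  let N : B → ℕ → V := fun c i => cj (((c : G) * g) ^ i) (pow_mem (hcgN c) i) ⟨x, hx⟩
  letI : CommGroup V := { (inferInstance : Group V) with mul_comm := fun a b => mul_comm' a b }
  have hnorm : ∀ c : B, ∏ i ∈ range l, N c i = 1 := by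
    intro c
    have h1 := (prod_conj_eq (hcgN c) hx l).1
    rw [hVl x hx c c.2, hBl c c.2, mul_one] at h1
    have h2 : ((List.range l).map (N c)).prod = 1 := Subtype.ext (by
      rw [Subgroup.val_list_prod, List.map_map, Subgroup.coe_one, ← h1]
      rfl)
    rwa [Finset.prod_range_induction _ (fun n => ((List.range n).map (N c)).prod) (by simp) l
      (fun n _ => by rw [List.range_succ, List.map_append, List.prod_append]; simp)]
  have hsum : (∏ c : B, N c 0) * ∏ i ∈ Ico 1 l, ∏ c : B, N c i = 1 := by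
    rw [← Finset.prod_comm (s := (univ : Finset B)), ← Finset.prod_mul_distrib]
    refine Finset.prod_eq_one fun c _ => ?_
    rw [← hnorm c, Finset.range_eq_Ico, ← Finset.prod_eq_prod_Ico_succ_bot hl.pos]
  -- the sum over a coset is fixed by `B`
  set β : V → V := cj b (hBV hb) with hβ
  have hβmul : ∀ u v : V, β (u * v) = β u * β v := fun u v => Subtype.ext (by
    show b * (u * v : G) * b⁻¹ = b * (u : G) * b⁻¹ * (b * (v : G) * b⁻¹)
    group)
  let βh : V →* V := MonoidHom.mk' β hβmul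
  have htr : ∀ i ∈ Ico 1 l, βh (∏ c : B, N c i) = ∏ c : B, N c i := by
    intro i hi
    rw [Finset.mem_Ico] at hi
    let y : V := cj (g ^ i) (pow_mem hgV i) ⟨x, hx⟩
    let M : B → V := fun c => cj (c : G) (hBV c.2) y
    have hNM : ∀ c, N c i = M (φ i c) := fun c => Subtype.ext (by
      show ((c : G) * g) ^ i * x * (((c : G) * g) ^ i)⁻¹ =
        ((c : G) * g) ^ i * (g ^ i)⁻¹ * (g ^ i * x * (g ^ i)⁻¹) * (((c : G) * g) ^ i * (g ^ i)⁻¹)⁻¹
      group)
    simp only [hNM]
    rw [(hbij i (by omega) hi.2).prod_comp M, map_prod]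
    refine Fintype.prod_equiv (Equiv.mulLeft ⟨b, hb⟩) _ _ fun c => Subtype.ext ?_
    show b * ((c : G) * (y : G) * (c : G)⁻¹) * b⁻¹ = (b * (c : G)) * (y : G) * (b * (c : G))⁻¹
    group
  have hN0 : ∏ c : B, N c 0 = (⟨x, hx⟩ : V) ^ Fintype.card B := by
    rw [← Finset.card_univ, ← Finset.prod_const]
    refine Finset.prod_congr rfl fun c _ => Subtype.ext ?_
    show ((c : G) * g) ^ 0 * x * (((c : G) * g) ^ 0)⁻¹ = x
    simp
  have hfixpow : βh ((⟨x, hx⟩ : V) ^ Fintype.card B) = (⟨x, hx⟩ : V) ^ Fintype.card B := by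
    rw [← hN0, eq_inv_of_mul_eq_one_left hsum, map_inv, map_prod, Finset.prod_congr rfl htr]
  rw [map_pow] at hfixpow
  have hcop' : (Nat.card V).Coprime (Fintype.card B) := by
    rw [← Nat.card_eq_fintype_card]; exact hcop.symm
  have := (powCoprime hcop').injective (a₁ := βh ⟨x, hx⟩) (a₂ := (⟨x, hx⟩ : V)) hfixpow
  exact mul_inv_eq_iff_eq_mul.1 (congrArg Subtype.val this)

/-- The norm lemma. -/
theorem le_centralizer_of_norm [Finite G] {p : ℕ} [Fact p.Prime] {B W : Subgroup G} {g : G} {l : ℕ}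
    (hl : l.Prime) (hW : IsPGroup p W) (hBW : B ≤ normalizer (W : Set G))
    (hgW : g ∈ normalizer (W : Set G)) (hgB : g ∈ normalizer (B : Set G))
    (hcop : (Nat.card B).Coprime (Nat.card W))
    (hWl : ∀ x ∈ W, ∀ b ∈ B, (x * (b * g)) ^ l = 1) : B ≤ centralizer (W : Set G) := by
  classical
  set Φ := (frattini W).map W.subtype with hΦ
  have hΦW : Φ ≤ W := map_subtype_le _
  have hcΦ : Nat.card Φ = Nat.card (frattini W) := card_map_of_injective W.subtype_injective
  have hBΦ : (Nat.card B).Coprime (Nat.card Φ) := hcop.coprime_dvd_right (card_dvd_of_le hΦW)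
  refine Coprime.le_centralizer_of_frattini hBW (hcΦ ▸ hBΦ) fun b hb x hx => ?_
  set N := normalizer (Φ : Set G) with hN
  have hnN : ∀ {y : G}, y ∈ normalizer (W : Set G) → y ∈ N := fun {y} hy => by
    rw [hN, hΦ]
    refine (conj_mem_normalizer_of_map_eq ?_)
    rw [Subgroup.map_map]
    have e : (MulAut.conj y).toMonoidHom.comp W.subtype =
        W.subtype.comp (W.normalizerMonoidHom ⟨y, hy⟩).toMonoidHom := by ext z; rfl
    rw [e, ← Subgroup.map_map]
    congr 1
    exact (frattini W).characteristic_iff_map_eq.1 inferInstance _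
  have hWN : W ≤ N := fun y hy => hnN (le_normalizer hy)
  haveI : (Φ.subgroupOf N).Normal := normal_in_normalizer
  set f := QuotientGroup.mk' (Φ.subgroupOf N) with hf
  have hfeq : ∀ {u v : G} (hu : u ∈ N) (hv : v ∈ N), (f ⟨u, hu⟩ = f ⟨v, hv⟩ ↔ u⁻¹ * v ∈ Φ) :=
    fun hu hv => by rw [hf, QuotientGroup.mk'_apply, QuotientGroup.mk'_apply, QuotientGroup.eq]; rfl
  set V := (W.subgroupOf N).map f with hV
  haveI : IsMulCommutative V := ⟨⟨fun u v => by
    obtain ⟨⟨u', hu'⟩, huW, hue⟩ := u.2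
    obtain ⟨⟨v', hv'⟩, hvW, hve⟩ := v.2
    apply Subtype.ext
    rw [Subgroup.coe_mul, Subgroup.coe_mul, ← hue, ← hve, ← map_mul, ← map_mul]
    refine (hfeq _ _).2 ?_
    have h1 := PGroups.commutatorElement_mem_frattini hW (⟨v', hvW⟩⁻¹ : W) (⟨u', huW⟩⁻¹ : W)
    refine ⟨_, h1, ?_⟩
    simp [commutatorElement_def, mul_assoc]⟩⟩
  set B' := (B.subgroupOf N).map f with hB'
  have hBN : B ≤ N := fun y hy => hnN (hBW hy)
  have hgN : g ∈ N := hnN hgW
  have hWn : ∀ {y : G} (hy : y ∈ normalizer (W : Set G)), f ⟨y, hnN hy⟩ ∈ normalizer (V : Set _) := by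
    intro y hy
    refine le_normalizer_map f ⟨⟨y, hnN hy⟩, mem_normalizer_iff.2 fun z => ?_, rfl⟩
    exact mem_normalizer_iff.1 hy z
  have hB'n : f ⟨g, hgN⟩ ∈ normalizer (B' : Set _) := by
    refine le_normalizer_map f ⟨⟨g, hgN⟩, mem_normalizer_iff.2 fun z => ?_, rfl⟩
    exact mem_normalizer_iff.1 hgB z
  have h := centralizes_of_norm_comm (B := B') (V := V) (g := f ⟨g, hgN⟩) hl
    (by rintro _ ⟨⟨c, hc⟩, hcB, rfl⟩; exact hWn (hBW hcB)) (hWn hgW) hB'n
    (Nat.Coprime.coprime_dvd_left ((card_map_dvd _ f).trans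
        (Nat.card_congr (subgroupOfEquivOfLe hBN).toEquiv).dvd)
      (Nat.Coprime.coprime_dvd_right ((card_map_dvd _ f).trans
        (Nat.card_congr (subgroupOfEquivOfLe hWN).toEquiv).dvd) hcop))
    ?_ (b := f ⟨b, hBN hb⟩) ⟨⟨b, hBN hb⟩, hb, rfl⟩ (x := f ⟨x, hWN hx⟩) ⟨⟨x, hWN hx⟩, hx, rfl⟩
  · rw [← map_mul, ← map_mul] at h
    have h1 := (hfeq _ _).1 h.symm
    have h3 := (mem_normalizer_iff.1 (hBN hb) _).1 h1
    have h4 : b * ((x * b)⁻¹ * (b * x)) * b⁻¹ = x⁻¹ * (b * x * b⁻¹) := by group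
    rw [h4] at h3
    have h5 := (mem_normalizer_iff.1 (hWN hx) _).1 h3
    rwa [show x * (x⁻¹ * (b * x * b⁻¹)) * x⁻¹ = b * x * b⁻¹ * x⁻¹ by group] at h5
  · rintro _ ⟨⟨y, hyN⟩, hy, rfl⟩ _ ⟨⟨c, hcN⟩, hc, rfl⟩
    rw [← map_mul, ← map_mul, ← map_pow]
    have e : (⟨y, hyN⟩ * (⟨c, hcN⟩ * ⟨g, hgN⟩) : N) ^ l = 1 := Subtype.ext (by
      simpa using hWl y hy c hc)
    rw [e, map_one]

end Cfsg.Agent.Lib.OneComposite
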