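import Cfsg.Agent.Lib.OneComposite.Basic
import Cfsg.Agent.Lib.OneComposite.Norm

/-!
# Invariant `p`-subgroups are centralised; fusion in an abelian Sylow 2-subgroup

Owner: helper73.
-/

set_option autoImplicit false
set_option linter.style.haveILetI false
set_option linter.unusedSectionVars false

namespace Cfsg.Agent.Lib.OneComposite

open Subgroup Cfsg.Agent.Lib.Involutions.Basic

variable {G : Type*} [Group G] [Finite G] {p : ℕ}

theorem coe_normalizer_conj {H : Subgroup G} {g x : G} (hg : g ∈ normalizer (H : Set G)) :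
    g * x * g⁻¹ ∈ H ↔ x ∈ H :=
  (mem_normalizer_iff.1 hg x).symm

namespace Two

variable (h : Two p G)
include h

/-- A group `B` coprime to `p` centralises every `p`-group invariant under `B` and a
fixed-point-free element of prime odd order. -/
theorem centralizes {B W : Subgroup G} (hW : IsPGroup p W)
    (hBcomm : ∀ a ∈ B, ∀ b ∈ B, a * b = b * a) (hBp : ¬ p ∣ Nat.card B)
    (hBW : B ≤ normalizer (W : Set G)) {g : G} {l : ℕ} (hl : l.Prime) (hlo : Odd l)
    (hgW : g ∈ normalizer (W : Set G)) (hgB : g ∈ normalizer (B : Set G)) (hg : orderOf g = l)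
    (hfix : ∀ b ∈ B, b * g = g * b → b = 1) : B ≤ centralizer (W : Set G) := by
  haveI := Fact.mk h.hp
  have hgl : g ^ l = 1 := hg ▸ pow_orderOf_eq_one g
  obtain ⟨k, hk⟩ := IsPGroup.iff_card.1 hW
  have hcop : (Nat.card B).Coprime (Nat.card W) := by
    rw [hk]
    exact ((h.hp.coprime_iff_not_dvd.2 hBp).symm).pow_right k
  -- `(b g) ^ l = 1`
  have hbg : ∀ b ∈ B, (b * g) ^ l = 1 := by
    intro b hb
    have hcomp : ∀ i : ℕ, (b * g) ^ i * (g ^ i)⁻¹ ∈ B := by
      intro i
      induction i with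
      | zero => simp
      | succ i ih =>
        have : (b * g) ^ (i + 1) * (g ^ (i + 1))⁻¹ =
            b * (g * ((b * g) ^ i * (g ^ i)⁻¹) * g⁻¹) := by
          rw [pow_succ', pow_succ']; group
        rw [this]
        exact mul_mem hb ((coe_normalizer_conj hgB).2 ih)
    have hc : (b * g) ^ l ∈ B := by simpa [hgl] using hcomp l
    refine hfix _ hc ?_
    have h1 := ((Commute.refl (b * g)).pow_left l).eq
    rw [← mul_assoc, hBcomm _ hc b hb, mul_assoc, mul_assoc b g] at h1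
    exact mul_left_cancel h1
  refine le_centralizer_of_norm hl hW hBW hgW hgB hcop fun x hx b hb => ?_
  -- `(x b g) ^ l` lies in `W`
  set y := x * (b * g) with hy
  have hbgW : b * g ∈ normalizer (W : Set G) := mul_mem (hBW hb) hgW
  have hyl : y ^ l ∈ W := by
    obtain ⟨e, hmem⟩ := prod_conj_eq hbgW hx l
    rw [hbg b hb, mul_one] at e
    rw [← e]
    exact list_prod_mem hmem
  by_cases hy1 : y = 1
  · rw [hy1, one_pow]
  have hr : (orderOf y).Prime := h.prime_of_dvd_mul_pow (k := k) hy1 hl hlo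
    (orderOf_dvd_of_pow_eq_one (by
      rw [pow_mul]
      exact orderOf_dvd_iff_pow_eq_one.1 (hk ▸ Subgroup.orderOf_dvd_natCard W hyl)))
  by_cases hrl : orderOf y = l
  · rw [← hrl, pow_orderOf_eq_one]
  exfalso
  have hyW : y ∈ W := by
    have hcopl : (orderOf y).Coprime l := (Nat.coprime_primes hr hl).2 hrl
    obtain ⟨j, hj⟩ := exists_pow_eq_self_of_coprime (x := y) hcopl.symm
    rw [← hj]
    exact pow_mem hyl j
  have hbgW' : b * g ∈ W := by
    have := mul_mem (inv_mem hx) hyW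
    rwa [hy, inv_mul_cancel_left] at this
  have hbg1 : b * g ≠ 1 := fun e => by
    have hgB' : g ∈ B := by rw [eq_inv_of_mul_eq_one_right e]; exact inv_mem hb
    have := hfix g hgB' rfl
    rw [this, orderOf_one] at hg
    exact hl.one_lt.ne hg
  haveI := Fact.mk hl
  have ho : orderOf (b * g) = l := orderOf_eq_prime (hbg b hb) hbg1
  have hlp : l = p := by
    have h1 : l ∣ p ^ k := hk ▸ ho ▸ Subgroup.orderOf_dvd_natCard W hbgW'
    exact (Nat.prime_dvd_prime_iff_eq hl h.hp).1 (hl.dvd_of_dvd_pow h1)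
  have h2 : orderOf y ∣ p ^ k := hk ▸ Subgroup.orderOf_dvd_natCard W hyW
  exact hrl (hlp ▸ (Nat.prime_dvd_prime_iff_eq hr h.hp).1 (hr.dvd_of_dvd_pow h2))

/-- A fixed-point-free element of odd prime order in the normaliser forces `T` to centralise
invariant `p`-groups. -/
theorem sylow_centralizes (T : Sylow 2 G) {W : Subgroup G} (hW : IsPGroup p W)
    (hTW : (T : Subgroup G) ≤ normalizer (W : Set G)) {g : G} {l : ℕ} (hl : l.Prime) (hlo : Odd l)
    (hgW : g ∈ normalizer (W : Set G)) (hgT : g ∈ normalizer ((T : Subgroup G) : Set G))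
    (hg : orderOf g = l) (hfix : ∀ t ∈ (T : Subgroup G), t * g = g * t → t = 1) :
    (T : Subgroup G) ≤ centralizer (W : Set G) := by
  refine h.centralizes hW (fun a ha b hb => h.comm_of_mem T.2 ha hb) (fun hd => ?_) hTW hl hlo hgW hgT hg hfix
  obtain ⟨k, hk⟩ := IsPGroup.iff_card.1 T.2
  exact h.ne_two ((Nat.prime_dvd_prime_iff_eq h.hp Nat.prime_two).1 (h.hp.dvd_of_dvd_pow (hk ▸ hd)))

/-- Conjugate elements of the abelian Sylow subgroup are conjugate under its normaliser. -/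
theorem fusion (T : Sylow 2 G) {a b : G} (ha : a ∈ (T : Subgroup G)) (hb : b ∈ (T : Subgroup G))
    (hab : IsConj a b) :
    ∃ n ∈ normalizer ((T : Subgroup G) : Set G), n * a * n⁻¹ = b := by
  haveI : Fact (Nat.Prime 2) := ⟨Nat.prime_two⟩
  haveI : IsMulCommutative (T : Subgroup G) :=
    ⟨⟨fun u v => Subtype.ext (h.comm_of_mem T.2 u.2 v.2)⟩⟩
  obtain ⟨g, hg⟩ := isConj_iff.1 hab
  obtain ⟨n, hn, he⟩ := Sylow.conj_eq_normalizer_conj_of_mem T a g⁻¹ ha (by rw [inv_inv, hg]; exact hb)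
  refine ⟨n⁻¹, inv_mem hn, ?_⟩
  rw [inv_inv] at he ⊢
  rw [← he, hg]

/-- Conjugating an involution into the Sylow subgroup. -/
theorem exists_conj_mem (T : Sylow 2 G) {s : G} (hs : orderOf s = 2) :
    ∃ g : G, g * s * g⁻¹ ∈ (T : Subgroup G) := by
  haveI : Fact (Nat.Prime 2) := ⟨Nat.prime_two⟩
  obtain ⟨S, hS⟩ := (IsPGroup.of_card (p := 2) (n := 1)
    (by rw [Nat.card_zpowers, hs, pow_one]) : IsPGroup 2 (zpowers s)).exists_le_sylow
  obtain ⟨g, hg⟩ := MulAction.exists_smul_eq G S T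
  refine ⟨g, ?_⟩
  rw [← hg]
  exact ⟨s, hS (mem_zpowers s), by simp⟩

/-- If the normaliser is transitive on `T`, it has a fixed-point-free element of odd prime order. -/
theorem exists_fpf (T : Sylow 2 G) {t₀ : G} (ht₀ : t₀ ∈ (T : Subgroup G)) (ht₁ : t₀ ≠ 1)
    (h4 : 4 ≤ Nat.card (T : Subgroup G))
    (htr : ∀ t ∈ (T : Subgroup G), t ≠ 1 →
      ∃ n ∈ normalizer ((T : Subgroup G) : Set G), n * t₀ * n⁻¹ = t) :
    ∃ g ∈ normalizer ((T : Subgroup G) : Set G), ∃ l : ℕ, l.Prime ∧ Odd l ∧ orderOf g = l ∧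
      ∀ t ∈ (T : Subgroup G), t * g = g * t → t = 1 := by
  classical
  set N := normalizer ((T : Subgroup G) : Set G) with hN
  let X := {t : G // t ∈ (T : Subgroup G) ∧ t ≠ 1}
  letI : MulAction N X :=
    { smul := fun n t => ⟨(n : G) * t.1 * (n : G)⁻¹, (coe_normalizer_conj n.2).2 t.2.1, fun e =>
        t.2.2 (by
          have := congrArg (fun w => (n : G)⁻¹ * w * (n : G)) e
          simpa [mul_assoc] using this)⟩
      one_smul := fun t => Subtype.ext (by show (1 : G) * t.1 * (1 : G)⁻¹ = t.1; group)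
      mul_smul := fun a b t => Subtype.ext (by
        show ((a : G) * b) * t.1 * ((a : G) * b)⁻¹ = (a : G) * ((b : G) * t.1 * (b : G)⁻¹) * (a : G)⁻¹
        group) }
  haveI : MulAction.IsPretransitive N X := ⟨fun u v => by
    obtain ⟨n, hn, e⟩ := htr u.1 u.2.1 u.2.2
    obtain ⟨m, hm, e'⟩ := htr v.1 v.2.1 v.2.2
    refine ⟨⟨m * n⁻¹, mul_mem hm (inv_mem hn)⟩, Subtype.ext ?_⟩
    show (m * n⁻¹) * u.1 * (m * n⁻¹)⁻¹ = v.1
    rw [← e, ← e']; group⟩
  haveI : Nonempty X := ⟨⟨t₀, ht₀, ht₁⟩⟩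
  obtain ⟨k, hk⟩ := IsPGroup.iff_card.1 T.2
  have hk2 : 2 ≤ k := by
    by_contra hlt
    rw [hk] at h4
    interval_cases k <;> omega
  have hX : Nat.card X = 2 ^ k - 1 := by
    have : Nat.card X = Nat.card {t : (T : Subgroup G) // t ≠ 1} := Nat.card_congr
      { toFun := fun t => ⟨⟨t.1, t.2.1⟩, fun e => t.2.2 (congrArg Subtype.val e)⟩
        invFun := fun t => ⟨t.1.1, t.1.2, fun e => t.2 (Subtype.ext e)⟩
        left_inv := fun _ => rfl
        right_inv := fun _ => rfl }
    letI hFT : Fintype (T : Subgroup G) := Fintype.ofFinite _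
    rw [this, ← hk, Nat.card_eq_fintype_card, Nat.card_eq_fintype_card, Fintype.card_subtype_compl,
      Fintype.card_subtype_eq]
  have h4' : 4 ≤ 2 ^ k := hk ▸ h4
  have hdvd : Nat.card X ∣ Nat.card N := by
    have := (MulAction.stabilizer N (⟨t₀, ht₀, ht₁⟩ : X)).index_dvd_card
    rwa [MulAction.index_stabilizer_of_transitive] at this
  by_cases hex : ∃ r : ℕ, r.Prime ∧ r ∣ 2 ^ k - 1 ∧ r ≠ p
  · obtain ⟨r, hr, hrd, hrp⟩ := hex
    haveI := Fact.mk hr
    have hr2 : r ≠ 2 := by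
      rintro rfl
      have : Even (2 ^ k) := Nat.even_pow.2 ⟨even_two, by omega⟩
      obtain ⟨j, hj⟩ := this
      omega
    obtain ⟨g, hg⟩ := exists_prime_orderOf_dvd_card' (G := N) r (hrd.trans (hX ▸ hdvd))
    refine ⟨g, g.2, r, hr, hr.odd_of_ne_two hr2, by rw [orderOf_coe, hg], fun t ht hc => ?_⟩
    by_contra ht1
    have hto := h.orderOf_invol T.2 ht ht1
    rcases h.primes_of_commute (show Commute t (g : G) from hc) Nat.prime_two hr (Ne.symm hr2) (Or.inl rfl) (hto ▸ dvd_rfl)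
      (by rw [orderOf_coe, hg]) with e | e
    · exact hrp e.2
    · exact hr2 e.2
  · push Not at hex
    haveI := Fact.mk h.hp
    obtain ⟨e, he⟩ : ∃ e, 2 ^ k - 1 = p ^ e :=
      ⟨_, Nat.eq_prime_pow_of_unique_prime_dvd (by omega) (fun {d} hd hdd => hex d hd hdd)⟩
    have he0 : 0 < e := by
      rcases e with _ | e
      · simp at he; omega
      · omega
    have hprime : 2 ^ k - 1 = p := by
      rcases CIT.prime_or_nine h.hp h.p_odd he0 (m := k) (Or.inr (by omega)) with hp' | hp'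
      · rw [he]
        obtain rfl : e = 1 := (Nat.Prime.pow_eq_iff hp').1 rfl |>.2
        exact pow_one p
      · exfalso
        rw [← he] at hp'
        rcases Nat.lt_or_ge k 4 with h5 | h5
        · interval_cases k <;> omega
        · have := Nat.pow_le_pow_right (show 1 ≤ 2 by norm_num) h5
          omega
    rw [hprime] at hX
    obtain ⟨P⟩ : Nonempty (Sylow p N) := inferInstance
    obtain ⟨g, hgP, hgm⟩ : ∃ g ∈ (P : Subgroup N), g • (⟨t₀, ht₀, ht₁⟩ : X) ≠ ⟨t₀, ht₀, ht₁⟩ := by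
      by_contra hne
      push Not at hne
      have hle : (P : Subgroup N) ≤ MulAction.stabilizer N (⟨t₀, ht₀, ht₁⟩ : X) := hne
      have h1 := P.not_dvd_index
      have h2 := Subgroup.index_dvd_of_le hle
      rw [MulAction.index_stabilizer_of_transitive, hX] at h2
      exact h1 h2
    have hg1 : g ≠ 1 := fun e => hgm (by rw [e, one_smul])
    obtain ⟨j, hj⟩ := P.2 ⟨g, hgP⟩
    have hj' : g ^ p ^ j = 1 := by simpa using congrArg Subtype.val hj
    have hgo : orderOf (g : G) = p := by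
      have hd : orderOf (g : G) ∣ p ^ j := by
        rw [orderOf_coe]; exact orderOf_dvd_of_pow_eq_one hj'
      exact h.orderOf_eq_p_of_dvd (fun e => hg1 (Subtype.ext e)) hd
    refine ⟨g, g.2, p, h.hp, h.p_odd, hgo, fun t ht hc => ?_⟩
    by_contra ht1
    -- the orbit of `t₀` is everything
    have hgp : g ^ p = 1 := Subtype.ext (by rw [Subgroup.coe_pow, ← hgo, pow_orderOf_eq_one]; rfl)
    let φ : Fin p → X := fun i => g ^ (i : ℕ) • (⟨t₀, ht₀, ht₁⟩ : X)
    have hinj : Function.Injective φ := by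
      intro i j hij
      by_contra hne
      obtain ⟨d, hd0, hdp, hfixd⟩ : ∃ d, 0 < d ∧ d < p ∧
          g ^ d • (⟨t₀, ht₀, ht₁⟩ : X) = ⟨t₀, ht₀, ht₁⟩ := by
        rcases Nat.lt_or_ge (i : ℕ) j with hlt | hge
        · refine ⟨(j : ℕ) - i, by omega, by omega, smul_left_cancel (g ^ (i : ℕ)) ?_⟩
          rw [smul_smul, ← pow_add, Nat.add_sub_cancel' hlt.le]
          exact hij.symm
        · have : (j : ℕ) < i := lt_of_le_of_ne hge fun e => hne (Fin.ext e.symm)
          refine ⟨(i : ℕ) - j, by omega, by omega, smul_left_cancel (g ^ (j : ℕ)) ?_⟩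
          rw [smul_smul, ← pow_add, Nat.add_sub_cancel' this.le]
          exact hij
      have hcop : d.Coprime (orderOf g) := by
        rw [← orderOf_coe, hgo]
        exact (h.hp.coprime_iff_not_dvd.2 fun hd => absurd (Nat.le_of_dvd hd0 hd) (by omega)).symm
      obtain ⟨m, hm⟩ := exists_pow_eq_self_of_coprime (x := g) hcop
      refine hgm ?_
      rw [← hm]
      exact pow_mem (show g ^ d ∈ MulAction.stabilizer N (⟨t₀, ht₀, ht₁⟩ : X) from hfixd) m
    have hbij : Function.Bijective φ :=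
      (Nat.bijective_iff_injective_and_card φ).2 ⟨hinj, by rw [hX, Nat.card_eq_fintype_card, Fintype.card_fin]⟩
    obtain ⟨i, hi⟩ := hbij.2 ⟨t, ht, ht1⟩
    refine hgm ?_
    have hfix : g • (⟨t, ht, ht1⟩ : X) = ⟨t, ht, ht1⟩ := Subtype.ext (by
      show (g : G) * t * (g : G)⁻¹ = t
      rw [← hc, mul_inv_cancel_right])
    rw [← hi] at hfix
    have : g ^ (i : ℕ) • (g • (⟨t₀, ht₀, ht₁⟩ : X)) = g ^ (i : ℕ) • (⟨t₀, ht₀, ht₁⟩ : X) := by
      have e1 : g ^ (i : ℕ) * g = g * g ^ (i : ℕ) := ((Commute.refl g).pow_left _).eq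
      rw [smul_smul, e1, mul_smul]
      exact hfix
    exact smul_left_cancel _ this

end Two

end Cfsg.Agent.Lib.OneComposite
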