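import Cfsg.Agent.Lib.OneComposite.Central
import Cfsg.Agent.Lib.Signalizer.Complete
import Cfsg.Agent.Lib.Involutions.StronglyEmbedded

/-!
# The cores of the involution centralizers normalise the Sylow 2-subgroup, rank at least three

The completion of the signalizer functor `s ↦ O(C(s))` is a `p`-group normalised by `N(T)` and
hence centralised by `T`.

Owner: helper73.
-/

set_option autoImplicit false
set_option linter.style.haveILetI false
set_option linter.unusedSectionVars false

namespace Cfsg.Agent.Lib.OneComposite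

open Subgroup Cfsg.Agent.Lib.Involutions.Basic
open Cfsg (centralizerPPrimeCore)

variable {G : Type*} [Group G] [Finite G] {p : ℕ}

/-- The cores of the involution centralizers lie in `N(T)`. -/
def CoreNormal (T : Sylow 2 G) : Prop :=
  ∀ s ∈ (T : Subgroup G), s ≠ 1 →
    Balance.coreIn 2 (centralizer ({s} : Set G)) ≤ normalizer ((T : Subgroup G) : Set G)

theorem le_normalizer_of_centralizes {T W : Subgroup G} (h : T ≤ centralizer (W : Set G)) :
    W ≤ normalizer (T : Set G) :=
  (le_centralizer_iff.1 h).trans (centralizer_le_normalizer _)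

theorem ne_top_of_odd {W : Subgroup G} (hG : Even (Nat.card G)) (hW : Odd (Nat.card W)) : W ≠ ⊤ :=
  fun e => by
    rw [e, Subgroup.card_top] at hW
    exact Nat.not_even_iff_odd.2 hW hG

theorem normalizer_ne_top [IsSimpleGroup G] {W : Subgroup G} (h1 : W ≠ ⊥) (h2 : W ≠ ⊤) :
    normalizer (W : Set G) ≠ ⊤ := fun e => by
  rcases (normalizer_eq_top_iff.1 e).eq_bot_or_eq_top with r | r
  · exact h1 r
  · exact h2 r

namespace Two

variable (h : Two p G)
include h

theorem even_card : Even (Nat.card G) := by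
  obtain ⟨x, hx⟩ := h.ex
  exact even_iff_two_dvd.2 (((dvd_mul_right 2 p).trans hx.symm.dvd).trans (orderOf_dvd_natCard x))

theorem le_centralizer_invol (T : Sylow 2 G) {s : G} (hs : s ∈ (T : Subgroup G)) :
    (T : Subgroup G) ≤ centralizer ({s} : Set G) :=
  fun _ ht => mem_centralizer_singleton_iff.2 (h.comm_of_mem T.2 ht hs)

theorem primes_mem (T : Sylow 2 G) {s : G} (hs : s ∈ (T : Subgroup G)) (hs1 : s ≠ 1) {q : ℕ}
    (hq : q.Prime) (hd : q ∣ Nat.card (centralizer ({s} : Set G))) : q = 2 ∨ q = p :=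
  h.primes_invol (h.orderOf_invol T.2 hs hs1) hq hd

theorem odd_core (K : Subgroup G) : Odd (Nat.card (Balance.coreIn 2 K)) :=
  Nat.coprime_two_right.1 (Balance.coreIn_coprime K)

/-- The functor. -/
theorem functor (T : Sylow 2 G) :
    Cfsg.IsSolvableSignalizerFunctor 2 (T : Subgroup G) (centralizerPPrimeCore (G := G) 2) := by
  haveI : Fact (Nat.Prime 2) := ⟨Nat.prime_two⟩
  haveI := Fact.mk h.hp
  refine ⟨⟨fun a _ _ => Balance.centralizerPPrimeCore_le a,
    fun a _ _ => Balance.not_dvd_card_centralizerPPrimeCore a, fun a ha _ b hb x hx => ?_,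
    fun a ha ha1 b hb hb1 => ?_⟩, fun a ha ha1 => ?_⟩
  · exact (coe_normalizer_conj (Balance.centralizer_le_normalizer_centralizerPPrimeCore a
      (h.le_centralizer_invol T ha hb))).2 hx
  · refine (Balance.core_centralizer_inf_le a b).trans ?_
    rw [Balance.centralizerPPrimeCore_eq b]
    refine h.le_core_of_invariant T (h.le_centralizer_invol T hb) (fun q hq hd => h.primes_mem T hb hb1 hq hd)
      ((Balance.coreIn_le _).trans inf_le_right) (h.odd_core _) ?_
    exact (le_inf (h.le_centralizer_invol T ha) (h.le_centralizer_invol T hb)).trans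
      (Balance.le_normalizer_coreIn _)
  · haveI : Group.IsNilpotent ↥(centralizerPPrimeCore 2 a) :=
      (h.isPGroup_of_odd (Balance.centralizerPPrimeCore_le a) (fun q hq hd => h.primes_mem T ha ha1 hq hd)
        (Balance.not_dvd_card_centralizerPPrimeCore a)).isNilpotent
    infer_instance

/-- The completion. -/
theorem closure_facts (T : Sylow 2 G) (h8 : 8 ≤ Nat.card (T : Subgroup G)) :
    ∃ W : Subgroup G, IsPGroup p W ∧
      normalizer ((T : Subgroup G) : Set G) ≤ normalizer (W : Set G) ∧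
      ∀ s ∈ (T : Subgroup G), s ≠ 1 → Balance.coreIn 2 (centralizer ({s} : Set G)) ≤ W := by
  haveI : Fact (Nat.Prime 2) := ⟨Nat.prime_two⟩
  haveI := Fact.mk h.hp
  have hA : Cfsg.IsElementaryAbelian 2 (T : Subgroup G) :=
    ⟨⟨⟨fun u v => Subtype.ext (h.comm_of_mem T.2 u.2 v.2)⟩⟩,
      fun a ha => by rw [pow_two]; exact h.sq_of_mem T.2 ha⟩
  have hθ := h.functor T
  have hA3 : 2 ^ 3 ≤ Nat.card (T : Subgroup G) := by norm_num; exact h8
  obtain ⟨hmem, heq⟩ := Signalizer.Completes.closure hA hA3 hθ.1 (Signalizer.completes_two hA hA3 hθ)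
  set W := Cfsg.signalizerClosure (T : Subgroup G) (centralizerPPrimeCore (G := G) 2) with hW
  have hTW : (T : Subgroup G) ≤ normalizer (W : Set G) := Signalizer.le_normalizer_of_mem hmem
  obtain ⟨hsol, hodd, hinv, hle⟩ := hmem
  have hcop : (Nat.card (T : Subgroup G)).Coprime (Nat.card W) := by
    obtain ⟨k, hk⟩ := IsPGroup.iff_card.1 T.2
    rw [hk]
    exact (Nat.prime_two.coprime_iff_not_dvd.2 hodd).pow_left k
  refine ⟨W, ?_, ?_, fun s hs hs1 => le_iSup (fun a : {a : G // a ∈ (T : Subgroup G) ∧ a ≠ 1} =>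
    centralizerPPrimeCore 2 (a : G)) ⟨s, hs, hs1⟩⟩
  · -- every other invariant Sylow subgroup is generated by trivial fixed points
    refine IsPGroup.of_card (n := (Nat.card W).primeFactorsList.length)
      (Nat.eq_prime_pow_of_unique_prime_dvd Nat.card_pos.ne' fun {q} hq hqd => ?_)
    by_contra hqp
    haveI := Fact.mk hq
    obtain ⟨Q, hQW, hQq, hQi, hQT⟩ := Cores.InvariantSylow.exists_invariant hTW hcop (Or.inr hsol) q
    have hQ1 : Q ≤ ⊥ := by
      refine Signalizer.le_of_hyp hA hQT (fun hd => hodd (hd.trans (card_dvd_of_le hQW))) fun B hB => ?_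
      obtain ⟨b, hbB, hb1⟩ := Signalizer.exists_ne_one_of_hyp hA3 hB
      intro x hx
      have hxθ : x ∈ centralizerPPrimeCore 2 b := by
        refine hle b (hB.1 hbB) hb1 ⟨hQW hx.1, mem_centralizer_singleton_iff.2 ?_⟩
        exact (mem_centralizer_iff.1 hx.2 b hbB).symm
      have hxp : IsPGroup p ↥(centralizerPPrimeCore 2 b) :=
        h.isPGroup_of_odd (Balance.centralizerPPrimeCore_le b)
          (fun r hr hd => h.primes_mem T (hB.1 hbB) hb1 hr hd)
          (Balance.not_dvd_card_centralizerPPrimeCore b)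
      have hd := (IsPGroup.disjoint_of_ne q p hqp Q _ hQq hxp)
      exact Subgroup.mem_bot.2 (Subgroup.disjoint_def.1 hd hx.1 hxθ)
    rw [le_bot_iff] at hQ1
    subst hQ1
    rw [Subgroup.relIndex_bot_left] at hQi
    exact hQi hqd
  · have hkey : ∀ m ∈ normalizer ((T : Subgroup G) : Set G), ∀ x ∈ W, m * x * m⁻¹ ∈ W := by
      intro m hm
      have : W ≤ W.comap (MulAut.conj m).toMonoidHom := by
        refine iSup_le fun a x hx => ?_
        refine le_iSup (fun a : {a : G // a ∈ (T : Subgroup G) ∧ a ≠ 1} => centralizerPPrimeCore 2 (a : G))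
          ⟨m * (a : G) * m⁻¹, (coe_normalizer_conj hm).2 a.2.1, fun e => a.2.2 ?_⟩ ?_
        · simpa [mul_assoc] using congrArg (fun w => m⁻¹ * w * m) e
        · show (MulAut.conj m).toMonoidHom x ∈ centralizerPPrimeCore 2 (m * (a : G) * m⁻¹)
          rw [Balance.centralizerPPrimeCore_conj]
          exact mem_map_of_mem _ hx
      exact fun x hx => this hx
    intro n hn
    rw [mem_normalizer_iff]
    refine fun x => ⟨fun hx => hkey n hn x hx, fun hx => ?_⟩
    have := hkey n⁻¹ (inv_mem hn) _ hx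
    rwa [inv_inv, show n⁻¹ * (n * x * n⁻¹) * n = x by group] at this

/-- Rank at least three: the cores normalise `T`. -/
theorem coreNormal_of_eight [IsSimpleGroup G] (T : Sylow 2 G) (h8 : 8 ≤ Nat.card (T : Subgroup G)) :
    CoreNormal T := by
  haveI : Fact (Nat.Prime 2) := ⟨Nat.prime_two⟩
  haveI := Fact.mk h.hp
  obtain ⟨W, hW, hNW, hle⟩ := h.closure_facts T h8
  by_cases hW1 : W = ⊥
  · intro s hs hs1
    exact ((hle s hs hs1).trans (le_of_eq hW1)).trans bot_le
  obtain ⟨k, hk⟩ := IsPGroup.iff_card.1 hW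
  have hWodd : Odd (Nat.card W) := hk ▸ h.p_odd.pow
  set K := normalizer (W : Set G) with hK
  have hKtop : K ≠ ⊤ := normalizer_ne_top hW1 (ne_top_of_odd h.even_card hWodd)
  have hTK : (T : Subgroup G) ≤ K := le_normalizer.trans hNW
  have hCK : ∀ s ∈ (T : Subgroup G), s ≠ 1 → centralizer ({s} : Set G) ≤ K := by
    intro s hs hs1 x hx
    obtain ⟨o, ho, n, -, hn, rfl⟩ := h.exists_mul_normalizer T (h.le_centralizer_invol T hs)
      (fun q hq hd => h.primes_mem T hs hs1 hq hd) hx
    exact mul_mem (le_normalizer (hle s hs hs1 ho)) (hNW hn)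
  have hKeven : Even (Nat.card K) := by
    refine even_iff_two_dvd.2 (dvd_trans ?_ (card_dvd_of_le hTK))
    obtain ⟨j, hj⟩ := IsPGroup.iff_card.1 T.2
    rw [hj] at h8 ⊢
    rcases j with _ | j
    · simp at h8
    · exact dvd_pow_self 2 (by omega)
  have hSE : Cfsg.IsStronglyEmbedded K := by
    refine Involutions.StronglyEmbedded.of_forall_conj hKtop hKeven fun t htK ht g hg => ?_
    -- move `t` and `g t g⁻¹` into `T` within `K`
    have hconj : ∀ u ∈ K, orderOf u = 2 → ∃ a ∈ K, a * u * a⁻¹ ∈ (T : Subgroup G) := by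
      intro u huK hu
      obtain ⟨S, hS⟩ := (IsPGroup.of_card (p := 2) (n := 1)
        (by rw [Nat.card_zpowers, orderOf_mk, hu, pow_one]) : IsPGroup 2 (zpowers (⟨u, huK⟩ : K))).exists_le_sylow
      obtain ⟨a, ha⟩ := MulAction.exists_smul_eq K S (T.subtype hTK)
      refine ⟨a, a.2, ?_⟩
      have : a * ⟨u, huK⟩ * a⁻¹ ∈ ((T.subtype hTK : Sylow 2 K) : Subgroup K) := by
        rw [← ha]
        exact ⟨⟨u, huK⟩, hS (mem_zpowers _), by simp⟩
      exact this
    obtain ⟨a, ha, hat⟩ := hconj t htK ht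
    obtain ⟨b, hb, hbt⟩ := hconj _ hg ((orderOf_conj_eq g t).trans ht)
    obtain ⟨n, hn, hne⟩ := h.fusion T hat hbt (isConj_iff.2 ⟨b * g * a⁻¹, by group⟩)
    have hcen : n⁻¹ * (b * g * a⁻¹) ∈ centralizer ({a * t * a⁻¹} : Set G) := by
      refine mem_centralizer_singleton_iff.2 ?_
      calc n⁻¹ * (b * g * a⁻¹) * (a * t * a⁻¹) = n⁻¹ * (b * (g * t * g⁻¹) * b⁻¹) * (b * g * a⁻¹) := by group
        _ = n⁻¹ * (n * (a * t * a⁻¹) * n⁻¹) * (b * g * a⁻¹) := by rw [hne]
        _ = a * t * a⁻¹ * (n⁻¹ * (b * g * a⁻¹)) := by group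
    have h1 := hCK _ hat (fun e => invol_ne_one ht (by
      simpa [mul_assoc] using congrArg (fun w => a⁻¹ * w * a) e)) hcen
    have := mul_mem (mul_mem (inv_mem hb) (mul_mem (hNW hn) h1)) ha
    simpa [mul_assoc] using this
  obtain ⟨t₀, ht₀, ht₁⟩ : ∃ t₀ ∈ (T : Subgroup G), t₀ ≠ 1 := by
    refine (T : Subgroup G).bot_or_exists_ne_one.resolve_left fun e => ?_
    rw [e, Subgroup.card_bot] at h8
    omega
  obtain ⟨g, hg, l, hl, hlo, hgo, hfix⟩ := h.exists_fpf T ht₀ ht₁ (by omega) fun t ht ht1 =>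
    h.fusion T ht₀ ht (Involutions.StronglyEmbedded.isConj_involutions hSE (h.orderOf_invol T.2 ht₀ ht₁)
      (h.orderOf_invol T.2 ht ht1))
  have hcen := h.sylow_centralizes T hW hTK hl hlo (hNW hg) hg hgo hfix
  exact fun s hs hs1 => (hle s hs hs1).trans (le_normalizer_of_centralizes hcen)

end Two

end Cfsg.Agent.Lib.OneComposite
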