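import Cfsg.Agent.Lib.OneComposite.CaseI
import Cfsg.Agent.Lib.OneComposite.CaseII
import Cfsg.Agent.Lib.BenderOne8.TwoTrans
import Cfsg.Agent.Lib.BenderOne.Assemble
import Cfsg.Agent.Lib.RankOneIdent.PSL2

/-!
# No simple group has core-normal Sylow 2-subgroups and an element of order `2p`

Owner: helper73.
-/

set_option autoImplicit false
set_option linter.style.haveILetI false
set_option linter.unusedSectionVars false

namespace Cfsg.Agent.Lib.OneComposite

open Subgroup Cfsg.Agent.Lib.Involutions.Basic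
open Cfsg.Agent.Lib.BenderOne20 (invAt pairStab swapSet)

universe u

variable {G : Type u} [Group G] [Finite G] [IsSimpleGroup G] {p : ℕ}

namespace Two

variable (h : Two p G) (T : Sylow 2 G) (hc : CoreNormal T) (h4 : 4 ≤ Nat.card (T : Subgroup G))
include h hc h4

section Small

variable (hCT : centralizer ((T : Subgroup G) : Set G) ≤ (T : Subgroup G))
  (hp2 : ¬ p ^ 2 ∣ Nat.card (normalizer ((T : Subgroup G) : Set G)))
  {s y : G} (hs : s ∈ (T : Subgroup G)) (hs1 : s ≠ 1) (hy : y ∈ centralizer ({s} : Set G))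
  (hyp : orderOf y = p)
include hCT hp2 hs hs1 hy hyp

/-- `N(T)` is not a TI set for its elements of order `p`: Burnside's transfer. -/
theorem exists_second :
    ∃ z ∈ normalizer ((T : Subgroup G) : Set G), orderOf z = p ∧
      ∃ g : G, g ∉ normalizer ((T : Subgroup G) : Set G) ∧
        g * z * g⁻¹ ∈ normalizer ((T : Subgroup G) : Set G) := by
  haveI := Fact.mk h.hp
  haveI : Fact (Nat.Prime 2) := ⟨Nat.prime_two⟩
  by_contra hne
  push Not at hne
  set M := normalizer ((T : Subgroup G) : Set G) with hM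
  have hyM : y ∈ M := h.centralizer_invol_le T hc hs hs1 hy
  have hNM : normalizer (zpowers y : Set G) ≤ M := by
    intro g hg
    by_contra hgM
    exact hne y hyM hyp g hgM ((zpowers_le).2 hyM ((coe_normalizer_conj hg).2 (mem_zpowers y)))
  obtain ⟨P, hP⟩ := (isPGroup_zpowers hyp).exists_le_sylow
  have hPeq : (P : Subgroup G) = zpowers y := by
    by_contra hPne
    haveI : Group.IsNilpotent (P : Subgroup G) := P.2.isNilpotent
    have hlt := Involutions.StronglyEmbedded.lt_inf_normalizer (lt_of_le_of_ne hP (Ne.symm hPne))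
    set K := (P : Subgroup G) ⊓ normalizer (zpowers y : Set G) with hK
    obtain ⟨j, hj⟩ := IsPGroup.iff_card.1 (P.2.to_le (inf_le_left : K ≤ P))
    have hcard : p < Nat.card K := by
      have h1 : Nat.card (zpowers y) ≤ Nat.card K := Nat.le_of_dvd Nat.card_pos (card_dvd_of_le hlt.le)
      have h2 : Nat.card (zpowers y) ≠ Nat.card K := fun e =>
        hlt.ne (Subgroup.eq_of_le_of_card_ge hlt.le e.ge)
      rw [Nat.card_zpowers, hyp] at h1 h2
      omega
    rcases Nat.lt_or_ge j 2 with hj2 | hj2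
    · interval_cases j
      · rw [hj, pow_zero] at hcard
        have := h.hp.pos
        omega
      · rw [hj, pow_one] at hcard
        omega
    · exact hp2 ((pow_dvd_pow p hj2).trans (hj ▸ card_dvd_of_le (inf_le_right.trans hNM)))
  have hcen : normalizer ((P : Subgroup G) : Set G) ≤ centralizer ((P : Subgroup G) : Set G) := by
    intro g hg
    rw [hPeq, ← centralizer_zpowers]
    have hgy : g ∈ normalizer (zpowers y : Set G) := hPeq ▸ hg
    refine mem_centralizer_singleton_iff.2 ?_
    -- reduce to elements of prime order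
    have key : ∀ g ∈ normalizer (zpowers y : Set G), (orderOf g).Prime → g * y = y * g := by
      intro g hg hpr
      have hgM := hNM hg
      by_cases hg2 : orderOf g = 2
      · have hgT := h.invol_mem T (invol_mul_self hg2) hgM
        have h1 : g * y * g⁻¹ * y⁻¹ ∈ (T : Subgroup G) := by
          rw [show g * y * g⁻¹ * y⁻¹ = g * (y * g⁻¹ * y⁻¹) by group]
          exact mul_mem hgT ((coe_normalizer_conj hyM).2 (inv_mem hgT))
        have h2 : g * y * g⁻¹ * y⁻¹ ∈ zpowers y :=
          mul_mem ((coe_normalizer_conj hg).2 (mem_zpowers y)) (inv_mem (mem_zpowers y))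
        have h3 := h.eq_one_of_odd_mem T h1 (h.p_odd.of_dvd_nat (by
          have := Subgroup.orderOf_dvd_natCard _ h2
          rwa [Nat.card_zpowers, hyp] at this))
        rwa [mul_inv_eq_one, mul_inv_eq_iff_eq_mul] at h3
      by_cases hgp : orderOf g = p
      · have hmem : g ∈ (P : Subgroup G) := by
          have := P.3 ((isPGroup_zpowers hgp).to_sup_of_normal_right' P.2
            ((zpowers_le).2 (show g ∈ normalizer ((P : Subgroup G) : Set G) by rwa [hPeq]))) le_sup_right
          exact this ▸ mem_sup_left (mem_zpowers g)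
        rw [hPeq] at hmem
        obtain ⟨k, rfl⟩ := mem_zpowers_iff.1 hmem
        exact ((Commute.refl y).zpow_left k).eq
      exfalso
      have := h.le_centralizer_of_elt T (isPGroup_zpowers hyp) ((zpowers_le).2 hyM) hpr hg2 hgp hgM hg rfl
      have h1 := h.eq_one_of_odd_mem T (hCT (this (mem_zpowers y))) (hyp ▸ h.p_odd)
      rw [h1, orderOf_one] at hyp
      exact h.hp.ne_one hyp.symm
    rcases h.cases g with e | e | e | ⟨e, e'⟩
    · rw [e, one_mul, mul_one]
    · exact key g hgy e
    · obtain ⟨h1, h2, h3⟩ := h.parts e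
      exact mem_centralizer_singleton_iff.1 (h3 (centralizer ({y} : Set G))
        (mem_centralizer_singleton_iff.2 (key _ (pow_mem hgy p) (by rw [h1]; exact Nat.prime_two)))
        (mem_centralizer_singleton_iff.2 (key _ (pow_mem hgy 2) (by rw [h2]; exact h.hp))))
    · by_contra hgy'
      obtain ⟨l, hl, hld⟩ := Nat.exists_prime_and_dvd
        (fun e1 => hgy' (by rw [orderOf_eq_one_iff.1 e1, one_mul, mul_one]) : orderOf g ≠ 1)
      have ho : orderOf (g ^ (orderOf g / l)) = l := orderOf_pow_orderOf_div (orderOf_pos g).ne' hld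
      have hcm : Commute y (g ^ (orderOf g / l)) := (key _ (pow_mem hgy _) (ho.symm ▸ hl)).symm
      have hlp : p ≠ l := fun e2 => e' (e2 ▸ hld)
      rcases h.primes_of_commute hcm h.hp hl hlp (Or.inr rfl) (dvd_of_eq hyp.symm) (dvd_of_eq ho.symm) with e2 | e2
      · exact h.ne_two e2.1
      · exact Nat.not_even_iff_odd.2 e (even_iff_two_dvd.2 (e2.2 ▸ hld))
  have hcompl := MonoidHom.ker_transferSylow_isComplement' P hcen
  have hcard := hcompl.card_mul_card
  have hPc : Nat.card (P : Subgroup G) = p := by rw [hPeq, Nat.card_zpowers, hyp]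
  rcases (inferInstance : ((MonoidHom.transferSylow P hcen).ker).Normal).eq_bot_or_eq_top with e | e
  · rw [e, Subgroup.card_bot, one_mul, hPc] at hcard
    have := h.even_card
    rw [← hcard] at this
    exact Nat.not_even_iff_odd.2 h.p_odd this
  · rw [e, Subgroup.card_top, hPc] at hcard
    exact h.hp.ne_one (Nat.eq_of_mul_eq_mul_left Nat.card_pos (hcard.trans (mul_one _).symm))

theorem false_small : False := by
  classical
  haveI := Fact.mk h.hp
  haveI : Fact (Nat.Prime 2) := ⟨Nat.prime_two⟩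
  obtain ⟨z, hzM, hzp, g₁, hg₁, hz⟩ := h.exists_second T hc h4 hCT hp2 hs hs1 hy hyp
  have hSE := h.stronglyEmbedded T hc h4
  have hOF := BenderOne20.oneFix_of_stronglyEmbedded hSE
  set M := normalizer ((T : Subgroup G) : Set G) with hM
  set a : G ⧸ M := ((1 : G) : G ⧸ M) with ha
  set g₀ := g₁⁻¹ with hg₀
  have hg₀M : g₀ ∉ M := fun e => hg₁ (inv_mem_iff.1 e)
  set b : G ⧸ M := (g₀ : G ⧸ M) with hb
  have hab : a ≠ b := fun e => (BenderOne.ne_one_iff.2 hg₀M) e.symm
  obtain ⟨u, hu⟩ := hOF.swapSet_nonempty hab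
  set m := Nat.card (invAt G a) with hm
  have hMc := h.card_normalizer T hc h4 hs hs1
  have hTm := h.card_invAt_add_one T hc h4
  -- the `p`-part of the two point stabiliser
  have hzD : z ∈ pairStab G a b := by
    refine ⟨smul_one_coset_iff.2 hzM, ?_⟩
    show z • (g₀ : G ⧸ M) = (g₀ : G ⧸ M)
    rw [Involutions.StronglyEmbedded.smul_coset_eq_iff, hg₀, inv_inv]
    exact hz
  have hpC : p ∣ Nat.card (centralizer ({s} : Set G)) := hyp ▸ Subgroup.orderOf_dvd_natCard _ hy
  have hpm : ¬ p ∣ m := fun hd => hp2 (by rw [hMc, pow_two]; exact mul_dvd_mul hd hpC)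
  have hDc := hOF.card_pairStab_swap hab hu
  have hpX : p ∣ Nat.card ↥(pairStab G a b ⊓ centralizer ({u} : Set G)) := by
    have hd := Subgroup.orderOf_dvd_natCard _ hzD
    rw [hzp, hDc] at hd
    exact (h.hp.dvd_mul.1 hd).resolve_left hpm
  have hCs : Nat.card (centralizer ({s} : Set G)) ≤ Nat.card (T : Subgroup G) * p := by
    have hTC := h.le_centralizer_invol T hs
    have hmul : Nat.card (T : Subgroup G) * (T : Subgroup G).relIndex (centralizer ({s} : Set G)) =
        Nat.card (centralizer ({s} : Set G)) := by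
      rw [← Subgroup.relIndex_bot_left, ← Subgroup.relIndex_bot_left,
        Subgroup.relIndex_mul_relIndex _ _ _ bot_le hTC]
    set i := (T : Subgroup G).relIndex (centralizer ({s} : Set G)) with hi
    have hidvd : i ∣ Nat.card (centralizer ({s} : Set G)) := Dvd.intro_left _ hmul
    have hodd : ¬ 2 ∣ i := fun hd => T.not_dvd_index (hd.trans
      (Dvd.intro _ (Subgroup.relIndex_mul_index hTC)))
    obtain ⟨j, hj⟩ : ∃ j, i = p ^ j := by
      refine ⟨_, Nat.eq_prime_pow_of_unique_prime_dvd ?_ fun {d} hd hdd => ?_⟩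
      · intro e0
        rw [e0, mul_zero] at hmul
        exact Nat.card_pos.ne' hmul.symm
      · rcases h.primes_mem T hs hs1 hd (hdd.trans hidvd) with e | e
        · exact absurd (e ▸ hdd) hodd
        · exact e
    have hj1 : j ≤ 1 := by
      by_contra hj1
      exact hp2 ((pow_dvd_pow p (show 2 ≤ j by omega)).trans
        ((hj ▸ hidvd).trans (card_dvd_of_le (h.centralizer_invol_le T hc hs hs1))))
    rw [← hmul, hj]
    exact Nat.mul_le_mul_left _ ((Nat.pow_le_pow_right h.hp.pos hj1).trans_eq (pow_one p))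
  -- `N(T) = T D`
  let φ : ↥(T : Subgroup G) × ↥(pairStab G a b) → M := fun q =>
    ⟨(q.1 : G) * q.2, mul_mem (le_normalizer q.1.2) (smul_one_coset_iff.1 q.2.2.1)⟩
  have hinj : Function.Injective φ := by
    rintro ⟨t, d⟩ ⟨t', d'⟩ e
    have e' : (t : G) * d = t' * d' := congrArg Subtype.val e
    have e1 : (t' : G)⁻¹ * t = (d' : G) * (d : G)⁻¹ := by
      rw [eq_mul_inv_iff_mul_eq, mul_assoc, e', inv_mul_cancel_left]
    have h1 := h.eq_one_of_odd_mem T (mul_mem (inv_mem t'.2) t.2)
      ((hOF.odd_pairStab hab).of_dvd_nat (Subgroup.orderOf_dvd_natCard _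
        (e1 ▸ mul_mem d'.2 (inv_mem d.2) : (t' : G)⁻¹ * t ∈ pairStab G a b)))
    have ht : t' = t := Subtype.ext (inv_mul_eq_one.1 h1)
    subst ht
    exact Prod.ext rfl (Subtype.ext (mul_left_cancel e'))
  have hbij : Function.Bijective φ := by
    refine (Nat.bijective_iff_injective_and_card φ).2 ⟨hinj,
      le_antisymm (Nat.card_le_card_of_injective φ hinj) ?_⟩
    rw [Nat.card_prod, hDc, hMc, ← hm]
    calc m * Nat.card (centralizer ({s} : Set G)) ≤ m * (Nat.card (T : Subgroup G) * p) :=
          Nat.mul_le_mul_left _ hCs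
      _ = Nat.card (T : Subgroup G) * (m * p) := by ring
      _ ≤ _ := Nat.mul_le_mul_left _ (Nat.mul_le_mul_left _ (Nat.le_of_dvd Nat.card_pos hpX))
  -- `T` is regular on the other points
  have hTT := BenderOne8.twoTrans_of_noBad hSE (h.hasFour T hc h4) (h.noBad T hc h4)
  have hreach : ∀ g : G, g ∉ M → ∃ t ∈ (T : Subgroup G), g⁻¹ * (t * g₀) ∈ M := by
    intro g hg
    obtain ⟨k, hk, hkM⟩ := hTT g₀ g hg₀M hg
    obtain ⟨⟨t, d⟩, e⟩ := hbij.2 ⟨k, hk⟩
    have e' : (t : G) * d = k := congrArg Subtype.val e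
    have hd : g₀⁻¹ * d * g₀ ∈ M := Involutions.StronglyEmbedded.smul_coset_eq_iff.1 d.2.2
    refine ⟨t, t.2, ?_⟩
    have := mul_mem hkM (inv_mem hd)
    rw [← e'] at this
    simpa [mul_assoc] using this
  have hR : BenderOne.Regular M (T : Subgroup G) :=
    { le := le_normalizer
      conj_mem := fun k hk q hq => (coe_normalizer_conj hk).2 hq
      free := fun g hg q hq hqg => by
        by_contra hq1
        exact hg (inv_mem_iff.1 (Involutions.StronglyEmbedded.mem_of_conj_mem hSE
          (h.orderOf_invol T.2 hq hq1) (g := g⁻¹) (le_normalizer hq) (by rwa [inv_inv, mul_assoc])))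
      trans := fun g g' hg hg' => by
        obtain ⟨t₁, ht₁, h1⟩ := hreach g hg
        obtain ⟨t₂, ht₂, h2⟩ := hreach g' hg'
        refine ⟨t₂ * t₁⁻¹, mul_mem ht₂ (inv_mem ht₁), ?_⟩
        simpa [mul_assoc] using mul_mem h2 (inv_mem h1) }
  have huM : u ∉ M := fun e => hab ((smul_one_coset_iff.2 e).symm.trans hu.2)
  have hcore : M.normalCore = ⊥ :=
    (Subgroup.normalCore_normal M).eq_bot_or_eq_top.resolve_right fun e =>
      hSE.1 (top_le_iff.1 (e ▸ Subgroup.normalCore_le M))
  have hyp' := BenderOne.hyp hSE (h.hasFour T hc h4) hcore hR hu.1 huM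
  have hq : BenderSuzuki.qNum G a = Nat.card (T : Subgroup G) := by
    rw [← hTm]
    refine congrArg (· + 1) (Nat.card_congr (Equiv.setCongr (Set.ext fun x => ?_)))
    constructor
    · rintro ⟨hx, hx1, hxx⟩
      exact ⟨invol_iff.2 ⟨hxx, hx1⟩, hx⟩
    · rintro ⟨hx, hxa⟩
      exact ⟨hxa, invol_ne_one hx, invol_mul_self hx⟩
  obtain ⟨-, L, hLn, -, hQL, -, hcase⟩ := RankOneIdent.linear_case G (G ⧸ M) a u T hyp' hq.symm
  have hL : L = ⊤ := hLn.eq_bot_or_eq_top.resolve_left fun e => by
    rw [e, le_bot_iff] at hQL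
    rw [hQL, Subgroup.card_bot] at h4
    omega
  rcases hcase with hlin | hsuz | huni
  · obtain ⟨⟨d, hdD, hdu⟩, hdp⟩ := exists_prime_orderOf_dvd_card'
      (G := ↥(pairStab G a b ⊓ centralizer ({u} : Set G))) p hpX
    rw [← Subgroup.orderOf_coe] at hdp
    have hdk : d ∈ BenderSuzuki.kSet a u := by
      rw [← hlin.2.1, hL]
      refine ⟨mem_top _, hdD.1, ?_⟩
      rw [show u • a = b from hu.2]
      exact hdD.2
    have h1 := hdk.2
    rw [← mem_centralizer_singleton_iff.1 hdu, mul_inv_cancel_right] at h1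
    have h2 : d ^ 2 = 1 := by rw [pow_two]; exact eq_inv_iff_mul_eq_one.1 h1
    have := orderOf_dvd_of_pow_eq_one h2
    rw [hdp] at this
    exact h.ne_two ((Nat.prime_dvd_prime_iff_eq h.hp Nat.prime_two).1 this)
  · have := hsuz.1
    rw [hq, pow_two] at this
    have := Nat.eq_of_mul_eq_mul_left Nat.card_pos ((mul_one _).trans this)
    omega
  · have := huni.1
    rw [hq, pow_succ, pow_two] at this
    have h2 := Nat.eq_one_of_mul_eq_one_right (Nat.eq_of_mul_eq_mul_left Nat.card_pos
      (((mul_one _).trans this).trans (mul_assoc _ _ _))).symm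
    omega

end Small

/-- There is no such group. -/
theorem false_of_coreNormal : False := by
  by_cases hI : ∀ s ∈ (T : Subgroup G), s ≠ 1 →
      centralizer ({s} : Set G) ≤ centralizer ((T : Subgroup G) : Set G)
  · exact h.false_case_one T hc h4 hI
  obtain ⟨s, hs, hs1, hne⟩ : ∃ s ∈ (T : Subgroup G), s ≠ 1 ∧
      ¬ centralizer ({s} : Set G) ≤ centralizer ((T : Subgroup G) : Set G) := by
    simpa only [not_forall, exists_prop] using hI
  obtain ⟨c, hc', hcC⟩ := SetLike.not_le_iff_exists.1 hne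
  have hcM := h.centralizer_invol_le T hc hs hs1 hc'
  have two : ∀ x ∈ normalizer ((T : Subgroup G) : Set G), orderOf x = 2 →
      x ∈ centralizer ((T : Subgroup G) : Set G) := fun x hx ho =>
    h.le_centralizer_self T (h.invol_mem T (invol_mul_self ho) hx)
  obtain ⟨y, hy, hyp, hyC⟩ : ∃ y ∈ centralizer ({s} : Set G), orderOf y = p ∧
      y ∉ centralizer ((T : Subgroup G) : Set G) := by
    rcases h.cases_of_primes (K := centralizer ({s} : Set G)) (fun q hq hd => h.primes_mem T hs hs1 hq hd)
      hc' with e | e | e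
    · exact absurd (e ▸ one_mem _) hcC
    · rcases h.primes_mem T hs hs1 e (Subgroup.orderOf_dvd_natCard _ hc') with e' | e'
      · exact absurd (two c hcM e') hcC
      · exact ⟨c, hc', e', hcC⟩
    · obtain ⟨h1, h2, h3⟩ := h.parts e
      exact ⟨c ^ 2, pow_mem hc' 2, h2, fun hmem => hcC (h3 _ (two _ (pow_mem hcM p) h1) hmem)⟩
  obtain ⟨hCT, hp2⟩ := h.small T hc h4 hs hs1 hy hyp hyC
  exact h.false_small T hc h4 hCT hp2 hs hs1 hy hyp

end Two

end Cfsg.Agent.Lib.OneComposite
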