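import Cfsg.Agent.Lib.OneComposite.Core
import Cfsg.Agent.Lib.Coprime.Glauberman
import Cfsg.Agent.Lib.BSWRecog.Main
import Cfsg.Agent.Lib.MixedPQ.Real
import Cfsg.Agent.Lib.Involutions.KleinSylow
import Cfsg.Agent.S0992

/-!
# Sylow 2-subgroups of order four

Either the cores of the involution centralizers normalise the Sylow 2-subgroup, or maximal
invariant `p`-subgroups meet trivially and the Brauer–Suzuki–Wall theorem applies.

Owner: helper73.
-/

set_option autoImplicit false
set_option linter.style.haveILetI false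
set_option linter.unusedSectionVars false

namespace Cfsg.Agent.Lib.OneComposite

open Subgroup Cfsg.Agent.Lib.Involutions.Basic

variable {G : Type*} [Group G] [Finite G] {p : ℕ}

/-- A normaliser of `K` normalises its odd core. -/
theorem mem_normalizer_coreIn {K : Subgroup G} {g : G} (hg : g ∈ normalizer (K : Set G)) :
    g ∈ normalizer (Balance.coreIn 2 K : Set G) := by
  refine conj_mem_normalizer_of_map_eq ?_
  rw [Balance.map_coreIn]
  congr 1
  ext x
  constructor
  · rintro ⟨z, hz, rfl⟩
    exact (coe_normalizer_conj hg).2 hz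
  · intro hx
    refine ⟨g⁻¹ * x * g, ?_, ?_⟩
    · have := (coe_normalizer_conj (inv_mem hg)).2 hx
      rwa [inv_inv] at this
    · show g * (g⁻¹ * x * g) * g⁻¹ = x
      group

/-- An element normalising a subgroup normalises its centraliser. -/
theorem mem_normalizer_centralizer {W : Subgroup G} {g : G} (hg : g ∈ normalizer (W : Set G)) :
    g ∈ normalizer (centralizer (W : Set G) : Set G) := by
  have key : ∀ m ∈ normalizer (W : Set G), ∀ c ∈ centralizer (W : Set G),
      m * c * m⁻¹ ∈ centralizer (W : Set G) := by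
    intro m hm c hc
    rw [mem_centralizer_iff] at hc ⊢
    intro w hw
    have h1 := hc (m⁻¹ * w * m) (by
      have := (coe_normalizer_conj (inv_mem hm)).2 hw
      rwa [inv_inv] at this)
    calc w * (m * c * m⁻¹) = m * (m⁻¹ * w * m * c) * m⁻¹ := by group
      _ = m * (c * (m⁻¹ * w * m)) * m⁻¹ := by rw [h1]
      _ = m * c * m⁻¹ * w := by group
  rw [mem_normalizer_iff]
  refine fun c => ⟨key g hg c, fun hc => ?_⟩
  have := key g⁻¹ (inv_mem hg) _ hc
  rwa [inv_inv, show g⁻¹ * (g * c * g⁻¹) * g = c by group] at this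

/-- `T`-invariant `p`-subgroups. -/
def InvP (p : ℕ) (T : Sylow 2 G) (V : Subgroup G) : Prop :=
  IsPGroup p V ∧ (T : Subgroup G) ≤ normalizer (V : Set G)

theorem inv_inf {T V V' : Subgroup G} (hV : T ≤ normalizer (V : Set G))
    (hV' : T ≤ normalizer (V' : Set G)) :
    T ≤ normalizer ((V ⊓ V' : Subgroup G) : Set G) := by
  intro x hx
  rw [mem_normalizer_iff]
  intro z
  exact and_congr (mem_normalizer_iff.1 (hV hx) z) (mem_normalizer_iff.1 (hV' hx) z)

theorem centralizer_zpowers (o : G) :
    centralizer ({o} : Set G) = centralizer (zpowers o : Set G) := by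
  refine le_antisymm (fun x hx => mem_centralizer_iff.2 ?_) (centralizer_le (by simp))
  rintro _ ⟨k, rfl⟩
  exact ((show Commute x o from mem_centralizer_singleton_iff.1 hx).zpow_right k).symm.eq

namespace Two

variable (h : Two p G)
include h

/-- An element of odd order centralising `T` lies in the odd core of `C(T)`. -/
theorem mem_core_centralizer (T : Sylow 2 G) {t : G} (ht : t ∈ (T : Subgroup G)) (ht1 : t ≠ 1) {c : G}
    (hc : c ∈ centralizer ((T : Subgroup G) : Set G)) (hodd : Odd (orderOf c)) :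
    c ∈ Balance.coreIn 2 (centralizer ((T : Subgroup G) : Set G)) := by
  have hTC : (T : Subgroup G) ≤ centralizer ((T : Subgroup G) : Set G) := fun x hx =>
    mem_centralizer_iff.2 fun y hy => h.comm_of_mem T.2 hy hx
  refine h.le_core_of_invariant T hTC (fun q hq hd => h.primes_mem T ht ht1 hq (hd.trans (card_dvd_of_le ?_)))
    (D := zpowers c) ((zpowers_le).2 hc) (by rwa [Nat.card_zpowers]) ?_ (mem_zpowers c)
  · exact fun x hx => mem_centralizer_singleton_iff.2 (mem_centralizer_iff.1 hx t ht).symm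
  · refine le_trans ?_ (centralizer_le_normalizer _)
    rw [le_centralizer_iff]
    exact (zpowers_le).2 hc

section Four

variable (T : Sylow 2 G) (hT : Nat.card (T : Subgroup G) = 4)
include hT

theorem klein : IsKleinFour (T : Subgroup G) := by
  refine ⟨hT, ?_⟩
  have h1 : Monoid.exponent (T : Subgroup G) ∣ 2 := Monoid.exponent_dvd_of_forall_pow_eq_one fun x =>
    Subtype.ext (by rw [Subgroup.coe_pow, pow_two]; exact h.sq_of_mem T.2 x.2)
  rcases (Nat.dvd_prime Nat.prime_two).1 h1 with e | e
  · haveI := Monoid.exp_eq_one_iff.1 e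
    rw [Nat.card_eq_one_iff_unique.2 ⟨inferInstance, inferInstance⟩] at hT
    omega
  · exact e

/-- An element of `N(T)` fixing an involution centralises `T`. -/
theorem mem_centralizer_of_fix {n t : G} (hn : n ∈ normalizer ((T : Subgroup G) : Set G))
    (ht : t ∈ (T : Subgroup G)) (ht1 : t ≠ 1) (hc : n * t * n⁻¹ = t) :
    n ∈ centralizer ((T : Subgroup G) : Set G) := by
  have hK := h.klein T hT
  rw [mem_centralizer_iff]
  intro u hu
  by_contra hne
  have hu1 : u ≠ 1 := fun e => hne (by subst e; simp)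
  have hut : u ≠ t := fun e => hne (by rw [e]; exact (mul_inv_eq_iff_eq_mul.1 hc).symm)
  set v := n * u * n⁻¹ with hv
  have hvT : v ∈ (T : Subgroup G) := (coe_normalizer_conj hn).2 hu
  have hvu : v ≠ u := fun e => hne (mul_inv_eq_iff_eq_mul.1 e).symm
  have hv1 : v ≠ 1 := fun e => hu1 (conj_eq_one_iff.1 e)
  have hvt : v ≠ t := fun e => hut (by
    have := congrArg (fun w => n⁻¹ * w * n) (e.trans hc.symm)
    simpa [hv, mul_assoc] using this)
  have key : ∀ z ∈ (T : Subgroup G), z ≠ 1 → z ≠ t → z ≠ u → z = t * u := by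
    intro z hz hz1 hzt hzu
    exact congrArg Subtype.val (IsKleinFour.eq_mul_of_ne_all (x := (⟨t, ht⟩ : (T : Subgroup G)))
      (y := ⟨u, hu⟩) (z := ⟨z, hz⟩) (by simpa using ht1) (by simpa using hu1)
      (by simpa using hut.symm) (by simpa using hz1) (by simpa using hzt) (by simpa using hzu))
  have hvtu := key v hvT hv1 hvt hvu
  have hback : n * v * n⁻¹ = u := by
    rw [hvtu, show n * (t * u) * n⁻¹ = (n * t * n⁻¹) * (n * u * n⁻¹) by group, hc, ← hv, hvtu,
      ← mul_assoc, h.sq_of_mem T.2 ht, one_mul]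
  exact hvu (Involutions.KleinSylow.no_swap hK hn hu hv.symm hback).symm

theorem two_elt_mem {x : G} (hx : x * x = 1) (hn : x ∈ normalizer ((T : Subgroup G) : Set G)) :
    x ∈ (T : Subgroup G) := by
  haveI : Fact (Nat.Prime 2) := ⟨Nat.prime_two⟩
  have hp : IsPGroup 2 (zpowers x) := by
    intro z
    obtain ⟨z, k, rfl⟩ := z
    refine ⟨1, Subtype.ext ?_⟩
    show (x ^ k) ^ 2 ^ 1 = 1
    rw [pow_one, pow_two, ← (Commute.refl x).mul_zpow, hx, one_zpow]
  have := T.3 (hp.to_sup_of_normal_right' T.2 ((zpowers_le).2 hn)) le_sup_right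
  exact this ▸ mem_sup_left (mem_zpowers x)

/-- An element of `N(T)` outside `C(T)` has a fixed-point-free square of odd prime order. -/
theorem sq_fpf {n : G} (hn : n ∈ normalizer ((T : Subgroup G) : Set G))
    (hnc : n ∉ centralizer ((T : Subgroup G) : Set G)) :
    ∃ j l : ℕ, l.Prime ∧ Odd l ∧ orderOf (n ^ j) = l ∧
      ∀ t ∈ (T : Subgroup G), t * n ^ j = n ^ j * t → t = 1 := by
  have hn2 : n ^ 2 ∉ centralizer ((T : Subgroup G) : Set G) := by
    intro hc
    apply hnc
    rw [mem_centralizer_iff]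
    intro u hu
    have e : n * (n * u * n⁻¹) * n⁻¹ = u := by
      rw [show n * (n * u * n⁻¹) * n⁻¹ = n ^ 2 * u * (n ^ 2)⁻¹ by rw [pow_two]; group,
        ← mem_centralizer_iff.1 hc u hu, mul_inv_cancel_right]
    exact (mul_inv_eq_iff_eq_mul.1
      (Involutions.KleinSylow.no_swap (h.klein T hT) hn hu rfl e).symm).symm
  have hne : n ^ 2 ≠ 1 := fun e => hn2 (e ▸ one_mem _)
  have hodd : Odd (orderOf (n ^ 2)) := by
    by_cases h2 : 2 ∣ orderOf n
    · rcases h.cases_two h2 with e | e
      · exact absurd (by rw [← e, pow_orderOf_eq_one]) hne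
      · refine h.p_odd.of_dvd_nat (orderOf_dvd_of_pow_eq_one ?_)
        rw [← pow_mul, ← e, pow_orderOf_eq_one]
    · exact (Nat.odd_iff.2 (Nat.two_dvd_ne_zero.1 h2)).of_dvd_nat (orderOf_pow_dvd 2)
  by_cases hp' : p ∣ orderOf (n ^ 2)
  · have ho : orderOf (n ^ 2) = p := by
      rcases h.cases_p hp' with e | e
      · exact e
      · rw [e] at hodd
        exact absurd (even_two_mul p) (Nat.not_even_iff_odd.2 hodd)
    refine ⟨2, p, h.hp, h.p_odd, ho, fun t ht hc => ?_⟩
    by_contra ht1
    exact hn2 (h.mem_centralizer_of_fix T hT (pow_mem hn 2) ht ht1 (mul_inv_eq_iff_eq_mul.2 hc.symm))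
  · obtain ⟨l, hl, hld⟩ :=
      Nat.exists_prime_and_dvd (fun e => hne (orderOf_eq_one_iff.1 e) : orderOf (n ^ 2) ≠ 1)
    have hl2 : l ≠ 2 := fun e => by
      subst e
      exact Nat.not_even_iff_odd.2 hodd (even_iff_two_dvd.2 hld)
    have ho : orderOf (n ^ (2 * (orderOf (n ^ 2) / l))) = l := by
      rw [pow_mul]
      exact orderOf_pow_orderOf_div (orderOf_pos _).ne' hld
    refine ⟨_, l, hl, hl.odd_of_ne_two hl2, ho, fun t ht hc => ?_⟩
    by_contra ht1
    rcases h.primes_of_commute (show Commute t _ from hc) Nat.prime_two hl hl2.symm (Or.inl rfl)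
      ((h.orderOf_invol T.2 ht ht1).symm ▸ dvd_rfl) (ho.symm ▸ dvd_rfl) with e | e
    · exact hp' (e.2 ▸ hld)
    · exact hl2 e.2

/-- `N(T)` is transitive on the involutions of `T`. -/
theorem transitive [IsSimpleGroup G] (hG : ¬ IsMulCommutative G) {t s : G} (ht : t ∈ (T : Subgroup G))
    (ht1 : t ≠ 1) (hs : s ∈ (T : Subgroup G)) (hs1 : s ≠ 1) :
    ∃ n ∈ normalizer ((T : Subgroup G) : Set G), n * t * n⁻¹ = s := by
  have h8 : ¬ 8 ∣ Nat.card G := by
    haveI : Fact (Nat.Prime 2) := ⟨Nat.prime_two⟩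
    intro h8
    have h1 := T.card_eq_multiplicity
    rw [hT] at h1
    have h2 : (Nat.card G).factorization 2 = 2 :=
      (Nat.pow_right_injective le_rfl (show 2 ^ 2 = 2 ^ (Nat.card G).factorization 2 from h1)).symm
    have h3 := (Nat.prime_two.pow_dvd_iff_le_factorization Nat.card_pos.ne' (k := 3)).1 h8
    omega
  have h3 := (Cfsg.Agent.S0992.result hG h.even_card h8 T).2
  obtain ⟨n, hn, hnc⟩ : ∃ n ∈ normalizer ((T : Subgroup G) : Set G),
      n ∉ centralizer ((T : Subgroup G) : Set G) := by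
    by_contra hne
    push Not at hne
    rw [Subgroup.relIndex_eq_one.2 hne] at h3
    omega
  obtain ⟨a, haT, hna⟩ : ∃ a ∈ (T : Subgroup G), n * a * n⁻¹ ≠ a := by
    by_contra hne
    push Not at hne
    exact hnc (mem_centralizer_iff.2 fun u hu => (mul_inv_eq_iff_eq_mul.1 (hne u hu)).symm)
  have ha1 : a ≠ 1 := fun e => hna (by subst e; group)
  have hall : ∀ c ∈ (T : Subgroup G), c ≠ 1 → IsConj a c := fun c hc hc1 =>
    Involutions.KleinSylow.isConj_all (h.klein T hT) haT ha1 ((coe_normalizer_conj hn).2 haT)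
      (fun e => ha1 (conj_eq_one_iff.1 e)) hna.symm (isConj_iff.2 ⟨n, rfl⟩) hc hc1
  exact h.fusion T ht hs ((hall t ht ht1).symm.trans (hall s hs hs1))

/-- Case of a nontrivial `p`-part of `C(T)`. -/
theorem coreNormal_of_core [IsSimpleGroup G] (hG : ¬ IsMulCommutative G)
    (hW0 : Balance.coreIn 2 (centralizer ((T : Subgroup G) : Set G)) ≠ ⊥) : CoreNormal T := by
  haveI : Fact (Nat.Prime 2) := ⟨Nat.prime_two⟩
  haveI := Fact.mk h.hp
  intro t ht ht1
  set W0 := Balance.coreIn 2 (centralizer ((T : Subgroup G) : Set G)) with hW0def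
  have hTC : (T : Subgroup G) ≤ centralizer ((T : Subgroup G) : Set G) := fun x hx =>
    mem_centralizer_iff.2 fun y hy => h.comm_of_mem T.2 hy hx
  have hW0C : W0 ≤ centralizer ((T : Subgroup G) : Set G) := Balance.coreIn_le _
  obtain ⟨y, hy, hy1⟩ := W0.bot_or_exists_ne_one.resolve_left hW0
  have hyodd : Odd (orderOf y) := (h.odd_core _).of_dvd_nat (Subgroup.orderOf_dvd_natCard W0 hy)
  have hyp : orderOf y = p := h.orderOf_eq_p (h.orderOf_invol T.2 ht ht1)
    ((mem_centralizer_iff.1 (hW0C hy) t ht).symm) hy1 hyodd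
  set K := centralizer (W0 : Set G) with hK
  have hTK : (T : Subgroup G) ≤ K := le_centralizer_iff.1 hW0C
  have hKpr : ∀ q, q.Prime → q ∣ Nat.card K → q = 2 ∨ q = p := fun q hq hd =>
    h.primes_p hyp hq (hd.trans (card_dvd_of_le fun x hx =>
      mem_centralizer_singleton_iff.2 (mem_centralizer_iff.1 hx y hy).symm))
  obtain ⟨s, hs, hst⟩ : ∃ s ∈ (T : Subgroup G), s ≠ 1 ∧ s ≠ t := by
    by_contra hne
    push Not at hne
    have hle : Nat.card (T : Subgroup G) ≤ 2 := by
      have hsub : (T : Subgroup G) ≤ zpowers t := fun x hx => by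
        by_cases hx1 : x = 1
        · exact hx1 ▸ one_mem _
        · exact (hne x hx hx1) ▸ mem_zpowers t
      refine (Subgroup.card_le_of_le hsub).trans ?_
      rw [Nat.card_zpowers, h.orderOf_invol T.2 ht ht1]
    omega
  obtain ⟨n, hn, hne⟩ := h.transitive T hT hG ht ht1 hs hst.1
  have hnc : n ∉ centralizer ((T : Subgroup G) : Set G) := fun hc => hst.2 (by
    rw [← hne, ← mem_centralizer_iff.1 hc t ht, mul_inv_cancel_right])
  obtain ⟨j, l, hl, hlo, hgo, hfix⟩ := h.sq_fpf T hT hn hnc
  have hgT := pow_mem hn j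
  have hgW : n ^ j ∈ normalizer (W0 : Set G) :=
    mem_normalizer_coreIn (mem_normalizer_centralizer hgT)
  have hU := h.sylow_centralizes T (h.isPGroup_of_odd (Balance.coreIn_le K) hKpr
      (fun hd => Nat.not_even_iff_odd.2 (h.odd_core K) (even_iff_two_dvd.2 hd)))
    (hTK.trans (Balance.le_normalizer_coreIn K)) hl hlo
    (mem_normalizer_coreIn (mem_normalizer_centralizer hgW)) hgT hgo hfix
  have hKN : K ≤ normalizer ((T : Subgroup G) : Set G) :=
    h.le_normalizer_of_core T hTK hKpr (le_normalizer_of_centralizes hU)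
  have hNN : normalizer (W0 : Set G) ≤ normalizer ((T : Subgroup G) : Set G) := by
    have key : ∀ k ∈ normalizer (W0 : Set G), ∀ z ∈ (T : Subgroup G), k * z * k⁻¹ ∈ (T : Subgroup G) := by
      intro k hk z hz
      refine h.two_elt_mem T hT ?_ (hKN ((coe_normalizer_conj (mem_normalizer_centralizer hk)).2 (hTK hz)))
      rw [show k * z * k⁻¹ * (k * z * k⁻¹) = k * (z * z) * k⁻¹ by group, h.sq_of_mem T.2 hz]
      group
    intro k hk
    rw [mem_normalizer_iff]
    refine fun z => ⟨key k hk z, fun hz => ?_⟩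
    have := key k⁻¹ (inv_mem hk) _ hz
    rwa [inv_inv, show k⁻¹ * (k * z * k⁻¹) * k = z by group] at this
  set O := Balance.coreIn 2 (centralizer ({t} : Set G)) with hO
  have hW0O : W0 ≤ O := h.le_core_of_invariant T (h.le_centralizer_invol T ht)
    (fun q hq hd => h.primes_mem T ht ht1 hq hd)
    (hW0C.trans fun x hx => mem_centralizer_singleton_iff.2 (mem_centralizer_iff.1 hx t ht).symm)
    (h.odd_core _) (hTC.trans (Balance.le_normalizer_coreIn _))
  intro x hx
  by_cases hxW : x ∈ W0
  · exact le_normalizer_of_centralizes (le_centralizer_iff.1 hW0C |> fun e => e) hxW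
  exfalso
  haveI : Group.IsNilpotent O := (h.isPGroup_of_odd (Balance.coreIn_le _)
    (fun q hq hd => h.primes_mem T ht ht1 hq hd)
    (fun hd => Nat.not_even_iff_odd.2 (h.odd_core _) (even_iff_two_dvd.2 hd))).isNilpotent
  obtain ⟨z, ⟨hzO, hzn⟩, hzW⟩ := SetLike.exists_of_lt
    (Involutions.StronglyEmbedded.lt_inf_normalizer (lt_of_le_of_ne hW0O fun e => hxW (e ▸ hx)))
  have hzC := h.mem_centralizer_of_fix T hT (hNN hzn) ht ht1
    (mul_inv_eq_iff_eq_mul.2 (mem_centralizer_singleton_iff.1 (Balance.coreIn_le _ hzO)))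
  exact hzW (h.mem_core_centralizer T ht ht1 hzC
    ((h.odd_core _).of_dvd_nat (Subgroup.orderOf_dvd_natCard O hzO)))

/-! ### Maximal invariant `p`-subgroups -/

section Trivial

variable (hW0 : Balance.coreIn 2 (centralizer ((T : Subgroup G) : Set G)) = ⊥)
include hW0

theorem eq_one_of_odd {t c : G} (ht : t ∈ (T : Subgroup G)) (ht1 : t ≠ 1)
    (hc : c ∈ centralizer ((T : Subgroup G) : Set G)) (hodd : Odd (orderOf c)) : c = 1 := by
  have := h.mem_core_centralizer T ht ht1 hc hodd
  rw [hW0] at this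
  exact Subgroup.mem_bot.1 this

theorem exists_ne_one : ∃ t ∈ (T : Subgroup G), t ≠ 1 :=
  (T : Subgroup G).bot_or_exists_ne_one.resolve_left fun e => by
    rw [e, Subgroup.card_bot] at hT
    omega

theorem centralizer_le_sylow : centralizer ((T : Subgroup G) : Set G) ≤ (T : Subgroup G) := by
  intro c hc
  obtain ⟨t, ht, ht1⟩ := h.exists_ne_one T hT hW0
  have hc2 : c * c = 1 := by
    have hodd : Odd (orderOf (c ^ 2)) ∨ c * c = 1 := by
      rcases h.cases_of_primes (K := centralizer ({t} : Set G)) (fun q hq hd => h.primes_mem T ht ht1 hq hd)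
        (mem_centralizer_singleton_iff.2 (mem_centralizer_iff.1 hc t ht).symm) with e | e | e
      · exact Or.inr (by rw [e, one_mul])
      · by_cases he2 : orderOf c = 2
        · exact Or.inr (invol_mul_self he2)
        · exact Or.inl ((e.odd_of_ne_two he2).of_dvd_nat (orderOf_pow_dvd 2))
      · refine Or.inl (h.p_odd.of_dvd_nat (orderOf_dvd_of_pow_eq_one ?_))
        rw [← pow_mul, ← e, pow_orderOf_eq_one]
    rcases hodd with ho | ho
    · rw [← pow_two]
      exact h.eq_one_of_odd T hT hW0 ht ht1 (pow_mem hc 2) ho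
    · exact ho
  exact h.two_elt_mem T hT hc2 (centralizer_le_normalizer _ hc)

/-- No odd-order element of `N(T)` normalises a nontrivial invariant `p`-subgroup. -/
theorem normalizer_inf_le {X : Subgroup G} (hX : IsPGroup p X)
    (hTX : (T : Subgroup G) ≤ normalizer (X : Set G)) (hX1 : X ≠ ⊥) :
    normalizer ((T : Subgroup G) : Set G) ⊓ normalizer (X : Set G) ≤ (T : Subgroup G) := by
  haveI := Fact.mk h.hp
  intro n hn
  by_cases hnc : n ∈ centralizer ((T : Subgroup G) : Set G)
  · exact h.centralizer_le_sylow T hT hW0 hnc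
  exfalso
  obtain ⟨j, l, hl, hlo, hgo, hfix⟩ := h.sq_fpf T hT hn.1 hnc
  have hcen := h.sylow_centralizes T hX hTX hl hlo (pow_mem hn.2 j) (pow_mem hn.1 j) hgo hfix
  obtain ⟨t, ht, ht1⟩ := h.exists_ne_one T hT hW0
  refine hX1 ((Subgroup.eq_bot_iff_forall _).2 fun x hx => h.eq_one_of_odd T hT hW0 ht ht1
    (le_centralizer_iff.1 hcen hx) ?_)
  obtain ⟨k, hk⟩ := IsPGroup.iff_card.1 hX
  exact (h.p_odd.pow (n := k)).of_dvd_nat (hk ▸ Subgroup.orderOf_dvd_natCard X hx)

/-- Maximal invariant `p`-subgroups meeting nontrivially are equal. -/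
theorem eq_of_inf :
    ∀ (d : ℕ) {V V' : Subgroup G},
      Maximal (InvP p T) V →
      Maximal (InvP p T) V' →
      V ⊓ V' ≠ ⊥ → Nat.card G - Nat.card ↥(V ⊓ V') = d → V = V' := by
  haveI : Fact (Nat.Prime 2) := ⟨Nat.prime_two⟩
  haveI := Fact.mk h.hp
  intro d
  induction d using Nat.strong_induction_on with
  | _ d ih =>
    intro V V' hV hV' hne hd
    by_contra hVV
    set X := V ⊓ V' with hXdef
    have hXp : IsPGroup p X := hV.1.1.to_le inf_le_left
    have hTX : (T : Subgroup G) ≤ normalizer (X : Set G) := inv_inf hV.1.2 hV'.1.2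
    set L := normalizer (X : Set G) with hL
    set TL : Sylow 2 L := T.subtype hTX with hTL
    have hNC : normalizer ((TL : Subgroup L) : Set L) ≤ centralizer ((TL : Subgroup L) : Set L) := by
      intro m hm
      have hmN : (m : G) ∈ normalizer ((T : Subgroup G) : Set G) := by
        rw [mem_normalizer_iff]
        refine fun z => ⟨fun hz => (mem_normalizer_iff.1 hm ⟨z, hTX hz⟩).1 hz, fun hz => ?_⟩
        have hzL : z ∈ L := by
          have := L.mul_mem (L.mul_mem (L.inv_mem m.2) (hTX hz)) m.2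
          simpa [mul_assoc] using this
        exact (mem_normalizer_iff.1 hm ⟨z, hzL⟩).2 hz
      have hmT : (m : G) ∈ (T : Subgroup G) := h.normalizer_inf_le T hT hW0 hXp hTX hne ⟨hmN, m.2⟩
      rw [mem_centralizer_iff]
      exact fun z hz => Subtype.ext (h.comm_of_mem T.2 hz hmT)
    set tr := MonoidHom.transferSylow TL hNC with htr
    have hcompl := MonoidHom.ker_transferSylow_isComplement' TL hNC
    set Lc := tr.ker.map L.subtype with hLc
    have hcard : Nat.card Lc = (TL : Subgroup L).index := by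
      rw [hLc, Subgroup.card_map_of_injective L.subtype_injective]
      exact hcompl.index_eq_card.symm
    have hodd : Odd (Nat.card Lc) := by
      rw [hcard]
      exact Nat.odd_iff.2 (Nat.two_dvd_ne_zero.1 TL.not_dvd_index)
    have hTLc : (T : Subgroup G) ≤ normalizer (Lc : Set G) := fun x hx =>
      le_normalizer_map L.subtype ⟨⟨x, hTX hx⟩, (normalizer_eq_top tr.ker).symm ▸ mem_top _, rfl⟩
    have hsub : ∀ U : Subgroup G, IsPGroup p U → U ≤ L → U ≤ Lc := by
      intro U hU hUL u hu
      refine ⟨⟨u, hUL hu⟩, ?_, rfl⟩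
      rw [SetLike.mem_coe, MonoidHom.mem_ker, ← orderOf_eq_one_iff]
      obtain ⟨k, hk⟩ := IsPGroup.iff_card.1 hU
      obtain ⟨j, hj⟩ := IsPGroup.iff_card.1 TL.2
      have h1 : orderOf (tr ⟨u, hUL hu⟩) ∣ p ^ k := (orderOf_map_dvd tr _).trans (by
        rw [← orderOf_coe]; exact hk ▸ Subgroup.orderOf_dvd_natCard U hu)
      have h2 : orderOf (tr ⟨u, hUL hu⟩) ∣ 2 ^ j := hj ▸ orderOf_dvd_natCard (tr ⟨u, hUL hu⟩)
      exact Nat.eq_one_of_dvd_coprimes
        (((Nat.coprime_primes Nat.prime_two h.hp).2 (Ne.symm h.ne_two)).pow j k) h2 h1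
    have hcop : (Nat.card (T : Subgroup G)).Coprime (Nat.card Lc) := by
      rw [hT, show (4 : ℕ) = 2 ^ 2 by norm_num]
      exact (Nat.coprime_two_left.2 hodd).pow_left 2
    have hsolv : Group.IsSolvable (T : Subgroup G) := by
      haveI := T.2.isNilpotent
      infer_instance
    have ext : ∀ W : Subgroup G, Maximal (InvP p T) W →
        X < W → ∃ P : Sylow p Lc, W ⊓ L ≤ (P : Subgroup Lc).map Lc.subtype ∧
          (T : Subgroup G) ≤ normalizer (((P : Subgroup Lc).map Lc.subtype : Subgroup G) : Set G) :=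
      fun W hW _ => Coprime.exists_invariant_sylow_ge hTLc hcop (Or.inl hsolv) p (W ⊓ L)
        (hsub _ (hW.1.1.to_le inf_le_left) inf_le_right) (hW.1.1.to_le inf_le_left)
        (inv_inf hW.1.2 (hTX.trans le_normalizer))
    have hXV : X < V := lt_of_le_of_ne inf_le_left fun e =>
      hVV (le_antisymm (e ▸ inf_le_right) (hV.2 hV'.1 (e ▸ inf_le_right)))
    have hXV' : X < V' := lt_of_le_of_ne inf_le_right fun e =>
      hVV (le_antisymm (hV'.2 hV.1 (e ▸ inf_le_left)) (e ▸ inf_le_left))
    obtain ⟨P, hP, hTP⟩ := ext V hV hXV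
    obtain ⟨P', hP', hTP'⟩ := ext V' hV' hXV'
    obtain ⟨c, ⟨hcL, hcC⟩, hc⟩ := Coprime.exists_conj_invariant_sylow hTLc hcop (Or.inl hsolv) P P' hTP hTP'
    obtain ⟨t, ht, ht1⟩ := h.exists_ne_one T hT hW0
    obtain rfl := h.eq_one_of_odd T hT hW0 ht ht1 hcC
      (hodd.of_dvd_nat (Subgroup.orderOf_dvd_natCard Lc hcL))
    rw [map_one, one_smul] at hc
    obtain ⟨W, hPW, hW⟩ := Finite.exists_le_maximal
      (p := InvP p T)
      ⟨P.2.map Lc.subtype, hTP⟩
    have big : ∀ U : Subgroup G, Maximal (InvP p T) U →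
        X < U → U ⊓ L ≤ W → U = W := by
      intro U hU hXU hUW
      haveI : Group.IsNilpotent U := hU.1.1.isNilpotent
      have hlt := Involutions.StronglyEmbedded.lt_inf_normalizer hXU
      have hle : X < U ⊓ W := lt_of_lt_of_le hlt (le_inf inf_le_left hUW)
      refine ih _ ?_ hU hW (fun e => hne (le_bot_iff.1 (e ▸ hle.le))) rfl
      have h1 : Nat.card X < Nat.card ↥(U ⊓ W) := by
        refine lt_of_le_of_ne (Subgroup.card_le_of_le hle.le) fun e => hle.ne ?_
        exact Subgroup.eq_of_le_of_card_ge hle.le e.ge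
      have h2 := Subgroup.card_le_card_group (U ⊓ W)
      omega
    exact hVV ((big V hV hXV (hP.trans hPW)).trans
      (big V' hV' hXV' ((hP'.trans hc.ge).trans hPW)).symm)

theorem max_eq_core [IsSimpleGroup G] (hG : ¬ IsMulCommutative G) {t : G} (ht : t ∈ (T : Subgroup G))
    (ht1 : t ≠ 1) (hOne : Balance.coreIn 2 (centralizer ({t} : Set G)) ≠ ⊥) {V : Subgroup G}
    (hV : Maximal (InvP p T) V)
    (hmeet : V ⊓ Balance.coreIn 2 (centralizer ({t} : Set G)) ≠ ⊥) :
    V = Balance.coreIn 2 (centralizer ({t} : Set G)) := by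
  haveI : Fact (Nat.Prime 2) := ⟨Nat.prime_two⟩
  haveI := Fact.mk h.hp
  set O := Balance.coreIn 2 (centralizer ({t} : Set G)) with hO
  have hOp : IsPGroup p O := h.isPGroup_of_odd (Balance.coreIn_le _)
    (fun q hq hd => h.primes_mem T ht ht1 hq hd)
    (fun hd => Nat.not_even_iff_odd.2 (h.odd_core _) (even_iff_two_dvd.2 hd))
  have hTO : (T : Subgroup G) ≤ normalizer (O : Set G) :=
    (h.le_centralizer_invol T ht).trans (Balance.le_normalizer_coreIn _)
  obtain ⟨M, hOM, hM⟩ := Finite.exists_le_maximal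
    (p := InvP p T) ⟨hOp, hTO⟩
  have hVM : V = M := h.eq_of_inf T hT hW0 _ hV hM (fun e => hmeet (le_bot_iff.1
    ((inf_le_inf_left V hOM).trans e.le))) rfl
  subst hVM
  refine le_antisymm ?_ hOM
  -- all fixed points of the other involutions are trivial
  have hother : ∀ b ∈ (T : Subgroup G), b ≠ 1 → b ≠ t → V ⊓ centralizer ({b} : Set G) = ⊥ := by
    intro b hb hb1 hbt
    by_contra hne
    obtain ⟨n, hn, hnb⟩ := h.transitive T hT hG ht ht1 hb hb1
    have hnc : n ∉ centralizer ((T : Subgroup G) : Set G) := fun hc => hbt (by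
      rw [← hnb, ← mem_centralizer_iff.1 hc t ht, mul_inv_cancel_right])
    set f := (MulAut.conj n).toMonoidHom with hf
    have hVf : Maximal (InvP p T) (V.map f) := by
      have hnorm : ∀ (U : Subgroup G) (m : G), m ∈ normalizer ((T : Subgroup G) : Set G) →
          (T : Subgroup G) ≤ normalizer (U : Set G) →
          (T : Subgroup G) ≤ normalizer ((U.map (MulAut.conj m).toMonoidHom : Subgroup G) : Set G) := by
        intro U m hm hU x hx
        have := (coe_normalizer_conj (inv_mem hm)).2 hx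
        rw [inv_inv] at this
        refine le_normalizer_map (MulAut.conj m).toMonoidHom ⟨m⁻¹ * x * m, hU this, ?_⟩
        show m * (m⁻¹ * x * m) * m⁻¹ = x
        group
      refine ⟨⟨hV.1.1.map _, hnorm V n hn hV.1.2⟩, fun U hU hle => ?_⟩
      have hback : V ≤ U.map (MulAut.conj n⁻¹).toMonoidHom := by
        intro v hv
        refine ⟨n * v * n⁻¹, hle (mem_map_of_mem f hv), ?_⟩
        show n⁻¹ * (n * v * n⁻¹) * n⁻¹⁻¹ = v
        group
      intro u hu
      have := hV.2 ⟨hU.1.map _, hnorm U n⁻¹ (inv_mem hn) hU.2⟩ hback (mem_map_of_mem _ hu)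
      refine ⟨_, this, ?_⟩
      show n * (n⁻¹ * u * n⁻¹⁻¹) * n⁻¹ = u
      group
    have hCVb : V ⊓ centralizer ({b} : Set G) ≤ V.map f := by
      refine le_trans ?_ (Subgroup.map_mono (f := f) hOM)
      have e : O.map f = Balance.coreIn 2 (centralizer ({b} : Set G)) := by
        rw [hO, ← Balance.centralizerPPrimeCore_eq, ← Balance.centralizerPPrimeCore_eq, ← hnb,
          Balance.centralizerPPrimeCore_conj]
      rw [e]
      obtain ⟨k, hk⟩ := IsPGroup.iff_card.1 hV.1.1
      refine h.le_core_of_invariant T (h.le_centralizer_invol T hb) (fun q hq hd => h.primes_mem T hb hb1 hq hd)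
        inf_le_right ((h.p_odd.pow (n := k)).of_dvd_nat (hk ▸ card_dvd_of_le inf_le_left))
        (inv_inf hV.1.2 ((h.le_centralizer_invol T hb).trans le_normalizer))
    have heq : V = V.map f :=
      h.eq_of_inf T hT hW0 _ hV hVf (fun e => hne (le_bot_iff.1 ((le_inf inf_le_left hCVb).trans e.le))) rfl
    obtain ⟨j, l, hl, hlo, hgo, hfix⟩ := h.sq_fpf T hT hn hnc
    have hnV : n ∈ normalizer (V : Set G) := conj_mem_normalizer_of_map_eq heq.symm
    have hcen := h.sylow_centralizes T hV.1.1 hV.1.2 hl hlo (pow_mem hnV j) (pow_mem hn j) hgo hfix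
    refine hne ((Subgroup.eq_bot_iff_forall _).2 fun x hx =>
      h.eq_one_of_odd T hT hW0 ht ht1 (le_centralizer_iff.1 hcen hx.1) ?_)
    obtain ⟨k, hk⟩ := IsPGroup.iff_card.1 hV.1.1
    exact (h.p_odd.pow (n := k)).of_dvd_nat (hk ▸ Subgroup.orderOf_dvd_natCard V hx.1)
  have hA : Cfsg.IsElementaryAbelian 2 (T : Subgroup G) :=
    ⟨⟨⟨fun u v => Subtype.ext (h.comm_of_mem T.2 u.2 v.2)⟩⟩,
      fun a ha => by rw [pow_two]; exact h.sq_of_mem T.2 ha⟩
  obtain ⟨k, hk⟩ := IsPGroup.iff_card.1 hV.1.1
  have hVodd : Odd (Nat.card V) := hk ▸ h.p_odd.pow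
  refine Signalizer.le_of_hyp hA hV.1.2
    (fun hd => Nat.not_even_iff_odd.2 hVodd (even_iff_two_dvd.2 hd)) fun B hB => ?_
  obtain ⟨b, hbB, hb1⟩ : ∃ b ∈ B, b ≠ (1 : G) := B.bot_or_exists_ne_one.resolve_left fun e => by
    have h2 := hB.2
    rw [e, Subgroup.relIndex_bot_left, hT] at h2
    omega
  intro x hx
  have hxb : x ∈ centralizer ({b} : Set G) :=
    mem_centralizer_singleton_iff.2 (mem_centralizer_iff.1 hx.2 b hbB).symm
  by_cases hbt : b = t
  · subst hbt
    refine h.le_core_of_invariant T (h.le_centralizer_invol T ht) (fun q hq hd => h.primes_mem T ht ht1 hq hd)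
      inf_le_right (hVodd.of_dvd_nat (card_dvd_of_le inf_le_left))
      (inv_inf hV.1.2 ((h.le_centralizer_invol T ht).trans le_normalizer)) ⟨hx.1, hxb⟩
  · have hm : x ∈ V ⊓ centralizer ({b} : Set G) := ⟨hx.1, hxb⟩
    rw [hother b (hB.1 hbB) hb1 hbt, Subgroup.mem_bot] at hm
    rw [hm]
    exact one_mem _

/-- The Brauer–Suzuki–Wall case. -/
theorem psl_case [IsSimpleGroup G] (hG : ¬ IsMulCommutative G) {t : G} (ht : t ∈ (T : Subgroup G))
    (ht1 : t ≠ 1) (hOne : Balance.coreIn 2 (centralizer ({t} : Set G)) ≠ ⊥) :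
    ∃ (F : Type) (_ : Field F) (_ : Fintype F), Odd (Fintype.card F) ∧
      Nonempty (G ≃* Matrix.ProjectiveSpecialLinearGroup (Fin 2) F) := by
  haveI : Fact (Nat.Prime 2) := ⟨Nat.prime_two⟩
  haveI := Fact.mk h.hp
  set O := Balance.coreIn 2 (centralizer ({t} : Set G)) with hO
  have hto := h.orderOf_invol T.2 ht ht1
  have htt := invol_mul_self hto
  have hOodd : ∀ o ∈ O, Odd (orderOf o) := fun o ho =>
    (h.odd_core _).of_dvd_nat (Subgroup.orderOf_dvd_natCard O ho)
  have hOt : ∀ o ∈ O, o * t = t * o := fun o ho => mem_centralizer_singleton_iff.1 (Balance.coreIn_le _ ho)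
  have hsq : ∀ o ∈ O, o * o = 1 → o = 1 := fun o ho e => by
    by_contra h1
    have := hOodd o ho
    rw [invol_iff.2 ⟨e, h1⟩] at this
    exact absurd this (by decide)
  have htO : t ∉ O := fun hc => ht1 (hsq t hc htt)
  haveI := h.klein T hT
  have key : ∀ z ∈ (T : Subgroup G), ∀ u ∈ (T : Subgroup G), u ≠ 1 → u ≠ t →
      z = 1 ∨ z = t ∨ z = u ∨ z = t * u := by
    intro z hz u hu hu1 hut
    by_contra hno
    push Not at hno
    exact hno.2.2.2 (congrArg Subtype.val (IsKleinFour.eq_mul_of_ne_all (x := (⟨t, ht⟩ : (T : Subgroup G)))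
      (y := ⟨u, hu⟩) (z := ⟨z, hz⟩) (by simpa using ht1) (by simpa using hu1)
      (by simpa using hut.symm) (by simpa using hno.1) (by simpa using hno.2.1) (by simpa using hno.2.2.1)))
  -- the other involutions of `T` invert `O`
  have hinv : ∀ u ∈ (T : Subgroup G), u ≠ 1 → u ≠ t → ∀ o ∈ O, u * o * u⁻¹ = o⁻¹ := by
    intro u hu hu1 hut o ho
    refine MixedPQ.inverts_of_fpf (h.sq_of_mem T.2 hu)
      (fun c hc => (coe_normalizer_conj (((h.le_centralizer_invol T ht).trans
        (Balance.le_normalizer_coreIn _)) hu)).2 hc) (fun c hc hcu => ?_) ho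
    refine h.eq_one_of_odd T hT hW0 ht ht1 (mem_centralizer_iff.2 fun z hz => ?_) (hOodd c hc)
    rcases key z hz u hu hu1 hut with rfl | rfl | rfl | rfl
    · simp
    · exact (hOt c hc).symm
    · exact hcu.eq.symm
    · exact ((show Commute c t from hOt c hc).mul_right hcu).eq.symm
  obtain ⟨s, hs, hs1, hst⟩ : ∃ s ∈ (T : Subgroup G), s ≠ 1 ∧ s ≠ t := by
    by_contra hne
    push Not at hne
    have hle : Nat.card (T : Subgroup G) ≤ 2 := by
      have hsub : (T : Subgroup G) ≤ zpowers t := fun x hx => by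
        by_cases hx1 : x = 1
        · exact hx1 ▸ one_mem _
        · exact (hne x hx hx1) ▸ mem_zpowers t
      refine (Subgroup.card_le_of_le hsub).trans ?_
      rw [Nat.card_zpowers, hto]
    omega
  have hss := h.sq_of_mem T.2 hs
  have hOcomm : ∀ a ∈ O, ∀ b ∈ O, a * b = b * a := by
    intro a ha b hb
    have h1 := hinv s hs hs1 hst (a * b) (O.mul_mem ha hb)
    rw [show s * (a * b) * s⁻¹ = (s * a * s⁻¹) * (s * b * s⁻¹) by group, hinv s hs hs1 hst a ha,
      hinv s hs hs1 hst b hb, mul_inv_rev] at h1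
    have := congrArg (·⁻¹) h1
    simpa using this.symm
  -- `K = O × ⟨t⟩`
  let K : Subgroup G :=
    { carrier := {x | x ∈ O ∨ x * t ∈ O}
      one_mem' := Or.inl (one_mem O)
      mul_mem' := by
        rintro a b (ha | ha) (hb | hb)
        · exact Or.inl (O.mul_mem ha hb)
        · exact Or.inr (by rw [mul_assoc]; exact O.mul_mem ha hb)
        · refine Or.inr ?_
          rw [mul_assoc, hOt b hb, ← mul_assoc]
          exact O.mul_mem ha hb
        · refine Or.inl ?_
          have e : a * b = (a * t) * (b * t) := by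
            rw [mul_assoc a t, ← hOt _ hb, mul_assoc b t t, htt, mul_one]
          rw [e]
          exact O.mul_mem ha hb
      inv_mem' := by
        rintro a (ha | ha)
        · exact Or.inl (O.inv_mem ha)
        · refine Or.inr ?_
          have h1 := O.inv_mem ha
          rw [mul_inv_rev, invol_inv hto] at h1
          have h2 := hOt _ h1
          rw [mul_assoc t, ← mul_left_cancel_iff (a := t)] at h2
          rw [show a⁻¹ * t = t * a⁻¹ by
            simpa [← mul_assoc, htt] using h2]
          exact h1 }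
  have hKO : ∀ a ∈ K, a * a ∈ O := by
    rintro a (ha | ha)
    · exact O.mul_mem ha ha
    · have hat : a * t = t * a := by
        have h2 := hOt _ ha
        rw [mul_assoc, htt, mul_one, ← mul_assoc] at h2
        calc a * t = t * (t * a * t) := by rw [← mul_assoc, ← mul_assoc, htt, one_mul]
          _ = t * a := by rw [← h2]
      have e : a * a = (a * t) * (a * t) := by
        calc a * a = a * (t * t) * a := by rw [htt, mul_one]
          _ = (a * t) * (t * a) := by group
          _ = (a * t) * (a * t) := by rw [hat]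
      rw [e]; exact O.mul_mem ha ha
  have huniqK : ∀ a ∈ K, a * a = 1 → a = 1 ∨ a = t := by
    rintro a (ha | ha) e
    · exact Or.inl (hsq a ha e)
    · refine Or.inr ?_
      have hat := hOt _ ha
      rw [mul_assoc, htt, mul_one, ← mul_assoc] at hat
      have h1 : a * t = 1 := hsq _ ha (by
        calc a * t * (a * t) = a * (t * a * t) := by group
          _ = a * a := by rw [← hat]
          _ = 1 := e)
      rw [eq_inv_of_mul_eq_one_left h1, invol_inv hto]
  have hcases : ∀ g : G, g * t = t * g → g ∈ K ∨ s * g ∈ K := by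
    intro g hg
    obtain ⟨o, ho, n, hnC, hn, rfl⟩ := h.exists_mul_normalizer T (h.le_centralizer_invol T ht)
      (fun q hq hd => h.primes_mem T ht ht1 hq hd) (mem_centralizer_singleton_iff.2 hg)
    have hnT := h.centralizer_le_sylow T hT hW0 (h.mem_centralizer_of_fix T hT hn ht ht1
      (mul_inv_eq_iff_eq_mul.2 (mem_centralizer_singleton_iff.1 hnC)))
    have hso : s * o = o⁻¹ * s := by rw [← hinv s hs hs1 hst o ho, inv_mul_cancel_right]
    rcases key n hnT s hs hs1 hst with rfl | rfl | rfl | rfl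
    · exact Or.inl (Or.inl (by rwa [mul_one]))
    · exact Or.inl (Or.inr (by rwa [mul_assoc, htt, mul_one]))
    · refine Or.inr (Or.inl ?_)
      rw [← mul_assoc, hso, mul_assoc, hss, mul_one]
      exact O.inv_mem ho
    · refine Or.inr (Or.inr ?_)
      rw [← mul_assoc, hso, h.comm_of_mem T.2 ht hs, mul_assoc o⁻¹, ← mul_assoc s s, hss, one_mul,
        mul_assoc, htt, mul_one]
      exact O.inv_mem ho
  -- an involution commuting with `t` and centralising an element of `O#` is `t`
  have hinvol : ∀ x o : G, orderOf x = 2 → x * t = t * x → o ∈ O → o ≠ 1 → x * o = o * x → x = t := by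
    intro x o hx hxt ho ho1 hxo
    rcases hcases x hxt with hxK | hxK
    · exact (huniqK x hxK (invol_mul_self hx)).resolve_left (invol_ne_one hx)
    · exfalso
      refine ho1 (hsq o ho ?_)
      have h1 : (s * x) * o = o * (s * x) := by
        rcases hxK with h' | h'
        · exact hOcomm _ h' o ho
        · calc (s * x) * o = ((s * x) * t) * (t * o) := by
                rw [mul_assoc _ t, ← mul_assoc t t, htt, one_mul]
            _ = ((s * x) * t) * (o * t) := by rw [hOt o ho]
            _ = (((s * x) * t) * o) * t := by group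
            _ = (o * ((s * x) * t)) * t := by rw [hOcomm _ h' o ho]
            _ = o * (s * x) := by rw [mul_assoc, mul_assoc (s * x), htt, mul_one]
      rw [mul_assoc, hxo, ← mul_assoc, ← mul_assoc, mul_left_inj] at h1
      have h2 := hinv s hs hs1 hst o ho
      rw [h1, mul_inv_cancel_right] at h2
      exact eq_inv_iff_mul_eq_one.1 h2
  have hCo : ∀ o ∈ O, o ≠ 1 → centralizer ({o} : Set G) ≤ centralizer ({t} : Set G) := by
    intro o ho ho1
    have hop : orderOf o = p := h.orderOf_eq_p hto (hOt o ho) ho1 (hOodd o ho)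
    have hpr : ∀ q, q.Prime → q ∣ Nat.card (centralizer ({o} : Set G)) → q = 2 ∨ q = p :=
      fun q hq hd => h.primes_p hop hq hd
    have htC : t ∈ centralizer ({o} : Set G) := mem_centralizer_singleton_iff.2 (hOt o ho).symm
    obtain ⟨S, hS⟩ := (IsPGroup.of_card (p := 2) (n := 1) (by rw [Nat.card_zpowers, orderOf_mk, hto, pow_one]) :
      IsPGroup 2 (zpowers (⟨t, htC⟩ : centralizer ({o} : Set G)))).exists_le_sylow
    set Sg := (S : Subgroup _).map (centralizer ({o} : Set G)).subtype with hSg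
    have hSg2 : IsPGroup 2 Sg := S.2.map _
    have htS : t ∈ Sg := ⟨⟨t, htC⟩, hS (mem_zpowers _), rfl⟩
    -- the core lies in `O`
    set Vo := Balance.coreIn 2 (centralizer ({o} : Set G)) with hVo
    have hTVo : (T : Subgroup G) ≤ normalizer (Vo : Set G) := by
      intro x hx
      refine mem_normalizer_coreIn ?_
      have hxN : x ∈ normalizer (zpowers o : Set G) := by
        have hxo : x * o * x⁻¹ = o ∨ x * o * x⁻¹ = o⁻¹ := by
          by_cases hx1 : x = 1
          · exact Or.inl (by rw [hx1]; group)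
          by_cases hxt : x = t
          · exact Or.inl (by rw [hxt, ← hOt o ho, mul_inv_cancel_right])
          · exact Or.inr (hinv x hx hx1 hxt o ho)
        refine conj_mem_normalizer_of_map_eq ?_
        rw [MonoidHom.map_zpowers]
        show zpowers (x * o * x⁻¹) = zpowers o
        rcases hxo with e | e <;> rw [e]
        exact zpowers_inv
      have hceq : centralizer ({o} : Set G) = centralizer (zpowers o : Set G) := centralizer_zpowers o
      rw [hceq]
      exact mem_normalizer_centralizer hxN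
    have hVop : IsPGroup p Vo := h.isPGroup_of_odd (Balance.coreIn_le _) hpr
      (fun hd => Nat.not_even_iff_odd.2 (h.odd_core _) (even_iff_two_dvd.2 hd))
    have hoV : o ∈ Vo := by
      refine Balance.le_coreIn_of_not_dvd (N := zpowers o) ?_ ?_ ?_ (mem_zpowers o)
      · exact (zpowers_le).2 (mem_centralizer_singleton_iff.2 rfl)
      · refine le_trans ?_ (centralizer_le_normalizer _)
        exact (centralizer_zpowers o).le
      · rw [Nat.card_zpowers, hop]
        exact fun hd => h.ne_two ((Nat.prime_dvd_prime_iff_eq Nat.prime_two h.hp).1 hd).symm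
    obtain ⟨V, hVoV, hV⟩ := Finite.exists_le_maximal
      (p := InvP p T) ⟨hVop, hTVo⟩
    have hVoO : Vo ≤ O := hVoV.trans (h.max_eq_core T hT hW0 hG ht ht1 hOne hV (fun e =>
      ho1 (Subgroup.mem_bot.1 (e ▸ (⟨hVoV hoV, ho⟩ : o ∈ V ⊓ O))))).le
    intro x hx
    obtain ⟨o', ho', n, hnC, hnn, rfl⟩ := h.exists_mul_sylow hpr S hx
    refine mul_mem (Balance.coreIn_le _ (hVoO ho')) (mem_centralizer_singleton_iff.2 ?_)
    have hn1 : n * t * n⁻¹ ∈ Sg := (coe_normalizer_conj hnn).2 htS
    have hnt : n * t * n⁻¹ = t := by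
      refine hinvol _ o ((orderOf_conj_eq n t).trans hto) (h.comm_of_mem hSg2 hn1 htS) ho ho1 ?_
      obtain ⟨z, -, hz⟩ := hn1
      rw [← hz]
      exact mem_centralizer_singleton_iff.1 z.2
    exact mul_inv_eq_iff_eq_mul.1 hnt
  have hyp : BSW.Hyp t s K :=
    { ht := hto
      hs := h.orderOf_invol T.2 hs hs1
      htK := Or.inr (by rw [htt]; exact one_mem O)
      hsK := fun hc => by
        rcases huniqK s hc hss with e | e
        · exact hs1 e
        · exact hst e
      hst := h.comm_of_mem T.2 hs ht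
      comm := by
        have hc : ∀ a ∈ K, a * t = t * a ∧ ∀ b ∈ O, a * b = b * a := by
          rintro a (ha | ha)
          · exact ⟨hOt a ha, fun b hb => hOcomm a ha b hb⟩
          · have h2 := hOt _ ha
            rw [mul_assoc, htt, mul_one, ← mul_assoc] at h2
            refine ⟨?_, fun b hb => ?_⟩
            · calc a * t = t * (t * a * t) := by rw [← mul_assoc, ← mul_assoc, htt, one_mul]
                _ = t * a := by rw [← h2]
            · have e : a = (a * t) * t := by rw [mul_assoc, htt, mul_one]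
              rw [e, mul_assoc, ← hOt b hb, ← mul_assoc, hOcomm _ ha b hb, mul_assoc]
        intro a ha b hb
        rcases hb with hb | hb
        · exact (hc a ha).2 b hb
        · have e : b = (b * t) * t := by rw [mul_assoc, htt, mul_one]
          rw [e, ← mul_assoc, (hc a ha).2 _ hb, mul_assoc, (hc a ha).1, ← mul_assoc]
      inv := by
        rintro a (ha | ha)
        · exact hinv s hs hs1 hst a ha
        · have h1 := hinv s hs hs1 hst _ ha
          have e : a = (a * t) * t := by rw [mul_assoc, htt, mul_one]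
          have hts : s * t * s⁻¹ = t := by rw [h.comm_of_mem T.2 hs ht, mul_inv_cancel_right]
          calc s * a * s⁻¹ = (s * (a * t) * s⁻¹) * (s * t * s⁻¹) := by
                conv_lhs => rw [e]
                group
            _ = (a * t)⁻¹ * t := by rw [h1, hts]
            _ = t * (a * t)⁻¹ := hOt _ (O.inv_mem ha)
            _ = a⁻¹ := by rw [mul_inv_rev, invol_inv hto, ← mul_assoc, htt, one_mul]
      cases' := hcases
      unique := huniqK
      ti := by
        intro a ha ha1 g hg
        by_cases haa : a * a = 1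
        · obtain rfl := (huniqK a ha haa).resolve_left ha1
          have := (huniqK _ hg (by
            rw [show g * a * g⁻¹ * (g * a * g⁻¹) = g * (a * a) * g⁻¹ by group, haa]; group)).resolve_left
              (fun e => ha1 (conj_eq_one_iff.1 e))
          exact mul_inv_eq_iff_eq_mul.1 this
        · have ho := hKO a ha
          have ho' : g * (a * a) * g⁻¹ ∈ O := by
            rw [show g * (a * a) * g⁻¹ = g * a * g⁻¹ * (g * a * g⁻¹) by group]
            exact hKO _ hg
          have ho'1 : g * (a * a) * g⁻¹ ≠ 1 := fun e => haa (conj_eq_one_iff.1 e)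
          have hcomm : g * t * g⁻¹ ∈ centralizer ({g * (a * a) * g⁻¹} : Set G) := by
            refine mem_centralizer_singleton_iff.2 ?_
            calc g * t * g⁻¹ * (g * (a * a) * g⁻¹) = g * (t * (a * a)) * g⁻¹ := by group
              _ = g * (a * a * t) * g⁻¹ := by rw [hOt _ ho]
              _ = g * (a * a) * g⁻¹ * (g * t * g⁻¹) := by group
          exact mul_inv_eq_iff_eq_mul.1 (hinvol _ _ ((orderOf_conj_eq g t).trans hto)
            (mem_centralizer_singleton_iff.1 (hCo _ ho' ho'1 hcomm)) ho' ho'1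
            (mem_centralizer_singleton_iff.1 hcomm))
      conj := by
        intro x y hx hy
        obtain ⟨a, ha⟩ := h.exists_conj_mem T hx
        obtain ⟨b, hb⟩ := h.exists_conj_mem T hy
        obtain ⟨n, -, hn⟩ := h.transitive T hT hG ha
          (invol_ne_one ((orderOf_conj_eq a x).trans hx)) hb (invol_ne_one ((orderOf_conj_eq b y).trans hy))
        exact (isConj_iff.2 ⟨a, rfl⟩).trans ((isConj_iff.2 ⟨n, hn⟩).trans (isConj_iff.2 ⟨b, rfl⟩).symm) }
  exact BSWRecog.iso_psl_of_hyp hyp

end Trivial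

/-- Sylow 2-subgroups of order four. -/
theorem four_cases [IsSimpleGroup G] (hG : ¬ IsMulCommutative G) :
    CoreNormal T ∨ ∃ (F : Type) (_ : Field F) (_ : Fintype F), Odd (Fintype.card F) ∧
      Nonempty (G ≃* Matrix.ProjectiveSpecialLinearGroup (Fin 2) F) := by
  by_cases hW0 : Balance.coreIn 2 (centralizer ((T : Subgroup G) : Set G)) = ⊥
  · by_cases hall : ∀ s ∈ (T : Subgroup G), s ≠ 1 → Balance.coreIn 2 (centralizer ({s} : Set G)) = ⊥
    · exact Or.inl fun s hs hs1 => (hall s hs hs1).le.trans bot_le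
    · push Not at hall
      obtain ⟨t, ht, ht1, hO⟩ := hall
      exact Or.inr (h.psl_case T hT hW0 hG ht ht1 hO)
  · exact Or.inl (h.coreNormal_of_core T hT hG hW0)

end Four

end Two

end Cfsg.Agent.Lib.OneComposite
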