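import Cfsg.Agent.Lib.OneComposite.Basic
import Cfsg.Agent.Lib.CITSuzuki.Orders

/-!
# `PSL₂(q)`, `q` odd, with one composite element order `2p`

Owner: helper73.
-/

set_option autoImplicit false
set_option linter.style.haveILetI false
set_option linter.unusedSectionVars false

namespace Cfsg.Agent.Lib.OneComposite

variable {G : Type*} [Group G] [Finite G] {p : ℕ}

/-- The arithmetic. -/
theorem psl_odd_arith {q E H : ℕ} (hp : p.Prime) (hp2 : p ≠ 2) (h5 : 5 ≤ q) (hpp : IsPrimePow q)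
    (hq : q + 1 = 2 * E ∧ q = 2 * H + 1 ∨ q = 2 * E + 1 ∧ q + 1 = 2 * H)
    (hE : E = 2 ∨ E = 2 * p) (hH : H.Prime ∨ H = 1) :
    (q = 5 ∨ q = 7 ∨ q = 11 ∨ q = 13) ∨
      ∃ n r s : ℕ, r.Prime ∧ s.Prime ∧ 3 ^ n - 1 = 2 * r ∧ 3 ^ n + 1 = 4 * s ∧ q = 3 ^ n := by
  have hpodd := Nat.odd_iff.1 (hp.odd_of_ne_two hp2)
  have hp3 := hp.two_le
  rcases hE with rfl | rfl
  · left; omega
  have hH' : H.Prime := hH.resolve_right (by omega)
  by_cases h3 : 3 ∣ q
  · right
    obtain ⟨l, n, hl, -, rfl⟩ := (isPrimePow_nat_iff q).1 hpp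
    obtain rfl : 3 = l := (Nat.prime_dvd_prime_iff_eq Nat.prime_three hl).1 (Nat.prime_three.dvd_of_dvd_pow h3)
    rcases Nat.even_or_odd n with ⟨j, rfl⟩ | ⟨j, rfl⟩
    · exfalso
      have h8 : 3 ^ (j + j) % 8 = 1 := by
        rw [← two_mul, pow_mul, Nat.pow_mod]
        norm_num
      omega
    · have h4 : 3 ^ (2 * j + 1) % 4 = 3 := by
        rw [pow_succ, pow_mul, Nat.mul_mod, Nat.pow_mod]
        norm_num
      refine ⟨2 * j + 1, H, p, hH', hp, ?_⟩
      revert hq h4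
      generalize 3 ^ (2 * j + 1) = Q
      intro hq h4
      rcases hq with ⟨h1, h2⟩ | ⟨h1, h2⟩
      · exact ⟨by omega, by omega, rfl⟩
      · omega
  · left
    have hcase : 3 ∣ p ∨ 3 ∣ H := by
      rcases Nat.prime_three.dvd_mul.1 (show 3 ∣ (4 * p) * (2 * H) by
        have : 3 ∣ (q + 1) * (q - 1) := by
          rcases (show q % 3 = 1 ∨ q % 3 = 2 by omega) with e | e
          · exact dvd_mul_of_dvd_right (by omega) _
          · exact dvd_mul_of_dvd_left (by omega) _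
        rcases hq with ⟨h1, h2⟩ | ⟨h1, h2⟩
        · rwa [h1, show q - 1 = 2 * H by omega, show 2 * (2 * p) = 4 * p by ring] at this
        · rwa [h2, show q - 1 = 4 * p by omega, mul_comm] at this) with e | e
      · exact Or.inl ((Nat.Coprime.dvd_mul_left (by norm_num : Nat.Coprime 3 4)).1 e)
      · exact Or.inr ((Nat.Coprime.dvd_mul_left (by norm_num : Nat.Coprime 3 2)).1 e)
    rcases hcase with e | e
    · obtain rfl := (Nat.prime_dvd_prime_iff_eq Nat.prime_three hp).1 e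
      omega
    · obtain rfl := (Nat.prime_dvd_prime_iff_eq Nat.prime_three hH').1 e
      omega

/-- The list. -/
theorem Two.psl_odd (h : Two p G) (hodd_prime : ∀ g : G, g ≠ 1 → Odd (orderOf g) → (orderOf g).Prime)
    {F : Type} [Field F] [Fintype F] (hodd : Odd (Fintype.card F))
    (h5 : 5 ≤ Fintype.card F) (e : G ≃* Matrix.ProjectiveSpecialLinearGroup (Fin 2) F) :
    (Fintype.card F = 5 ∨ Fintype.card F = 7 ∨ Fintype.card F = 11 ∨ Fintype.card F = 13) ∨
      ∃ n r s : ℕ, r.Prime ∧ s.Prime ∧ 3 ^ n - 1 = 2 * r ∧ 3 ^ n + 1 = 4 * s ∧ Fintype.card F = 3 ^ n := by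
  obtain ⟨⟨x, hx, -⟩, ⟨y, hy, -⟩⟩ := CITSuzuki.Orders.psl_two_odd (F := F) hodd
  obtain ⟨x, rfl⟩ := e.surjective x
  obtain ⟨y, rfl⟩ := e.surjective y
  rw [MulEquiv.orderOf_eq] at hx hy
  have key : ∀ {d : ℕ} {g : G}, d ∣ orderOf g →
      (Even d → d = 2 ∨ d = 2 * p) ∧ (Odd d → d.Prime ∨ d = 1) := by
    intro d g hd
    have hcases : g = 1 ∨ (orderOf g).Prime ∨ orderOf g = 2 * p := by
      rcases h.cases g with e1 | e1 | e1 | ⟨e1, -⟩
      · exact Or.inl e1
      · exact Or.inr (Or.inl e1)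
      · exact Or.inr (Or.inr e1)
      · by_cases hg1 : g = 1
        · exact Or.inl hg1
        · exact Or.inr (Or.inl (hodd_prime g hg1 e1))
    rcases hcases with e1 | e1 | e1
    · rw [e1, orderOf_one, Nat.dvd_one] at hd
      subst hd
      exact ⟨fun h2 => absurd h2 (by decide), fun _ => Or.inr rfl⟩
    · rcases e1.eq_one_or_self_of_dvd d hd with e2 | e2
      · subst e2
        exact ⟨fun h2 => absurd h2 (by decide), fun _ => Or.inr rfl⟩
      · refine ⟨fun h2 => Or.inl ?_, fun _ => Or.inl (e2 ▸ e1)⟩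
        rw [e2] at h2 ⊢
        exact e1.even_iff.1 h2
    · rw [e1] at hd
      refine ⟨fun h2 => ?_, fun h2 => ?_⟩
      · obtain ⟨c, rfl⟩ := h2.two_dvd
        rcases h.hp.eq_one_or_self_of_dvd c (Nat.dvd_of_mul_dvd_mul_left two_pos hd) with e2 | e2
        · exact Or.inl (by rw [e2, mul_one])
        · exact Or.inr (by rw [e2])
      · rcases h.hp.eq_one_or_self_of_dvd d (h2.coprime_two_right.dvd_of_dvd_mul_left hd) with e2 | e2
        · exact Or.inr e2
        · exact Or.inl (e2 ▸ h.hp)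
  have hq := Nat.odd_iff.1 hodd
  have hpp : IsPrimePow (Fintype.card F) := Fintype.isPrimePow_card_of_field
  rcases Nat.even_or_odd ((Fintype.card F + 1) / 2) with he | ho
  · refine psl_odd_arith h.hp h.ne_two h5 hpp (Or.inl ⟨?_, ?_⟩) ((key hy).1 he) ((key hx).2 ?_)
    · omega
    · omega
    · rw [Nat.odd_iff]; rw [Nat.even_iff] at he; omega
  · refine psl_odd_arith h.hp h.ne_two h5 hpp (Or.inr ⟨?_, ?_⟩) ((key hx).1 ?_) ((key hy).2 ho)
    · omega
    · omega
    · rw [Nat.even_iff]; rw [Nat.odd_iff] at ho; omega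

end Cfsg.Agent.Lib.OneComposite
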