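import Cfsg.Agent.Lib.OneComposite.Four
import Cfsg.Agent.Lib.BenderOne20.Bridge
import Cfsg.Agent.Lib.BenderOne.Interface

/-!
# The normaliser of the Sylow 2-subgroup is strongly embedded

Standing assumption: the cores of the involution centralizers normalise the Sylow 2-subgroup `T`,
of order at least four.

Owner: helper73.
-/

set_option autoImplicit false
set_option linter.style.haveILetI false
set_option linter.unusedSectionVars false

namespace Cfsg.Agent.Lib.OneComposite

open Subgroup Cfsg.Agent.Lib.Involutions.Basic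
open Cfsg.Agent.Lib.BenderOne20 (HasFour invAt)

variable {G : Type*} [Group G] [Finite G] {p : ℕ}

/-- The fixed points of a `p`-group on a subgroup it normalises. -/
theorem modEq_inf_centralizer {q : ℕ} [Fact q.Prime] {P X : Subgroup G} (hP : IsPGroup q P)
    (hPX : P ≤ normalizer (X : Set G)) :
    Nat.card X ≡ Nat.card ↥(X ⊓ centralizer (P : Set G)) [MOD q] := by
  letI : MulAction P X :=
    { smul := fun a x => ⟨(a : G) * x * (a : G)⁻¹, (coe_normalizer_conj (hPX a.2)).2 x.2⟩
      one_smul := fun x => Subtype.ext (by show (1 : G) * x * 1⁻¹ = x; simp)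
      mul_smul := fun a b x => Subtype.ext (by
        show ((a : G) * b) * x * ((a : G) * b)⁻¹ = a * (b * x * (b : G)⁻¹) * (a : G)⁻¹; group) }
  have e : MulAction.fixedPoints P X ≃ ↥(X ⊓ centralizer (P : Set G)) :=
    { toFun := fun x => ⟨x.1.1, x.1.2, mem_centralizer_iff.2 fun a ha =>
        mul_inv_eq_iff_eq_mul.1 (congrArg Subtype.val (x.2 ⟨a, ha⟩))⟩
      invFun := fun x => ⟨⟨x.1, x.2.1⟩, fun a => Subtype.ext
        (mul_inv_eq_iff_eq_mul.2 (mem_centralizer_iff.1 x.2.2 a a.2))⟩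
      left_inv := fun x => rfl
      right_inv := fun x => rfl }
  exact Nat.card_congr e ▸ hP.card_modEq_card_fixedPoints X

theorem isPGroup_zpowers {q : ℕ} {y : G} (hy : orderOf y = q) : IsPGroup q (zpowers y) :=
  IsPGroup.of_card (n := 1) (by rw [Nat.card_zpowers, hy, pow_one])

namespace Two

variable (h : Two p G) (T : Sylow 2 G)
include h

theorem elementary : Cfsg.IsElementaryAbelian 2 (T : Subgroup G) :=
  ⟨⟨⟨fun u v => Subtype.ext (h.comm_of_mem T.2 u.2 v.2)⟩⟩,
    fun a ha => by rw [pow_two]; exact h.sq_of_mem T.2 ha⟩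

theorem eq_one_of_odd_mem {x : G} (hx : x ∈ (T : Subgroup G)) (hodd : Odd (orderOf x)) : x = 1 := by
  by_contra hx1
  rw [h.orderOf_invol T.2 hx hx1] at hodd
  exact absurd hodd (by decide)

theorem le_centralizer_self : (T : Subgroup G) ≤ centralizer ((T : Subgroup G) : Set G) :=
  fun _ hx => mem_centralizer_iff.2 fun _ hy => h.comm_of_mem T.2 hy hx

theorem invol_mem {x : G} (hx : x * x = 1) (hn : x ∈ normalizer ((T : Subgroup G) : Set G)) :
    x ∈ (T : Subgroup G) := by
  haveI : Fact (Nat.Prime 2) := ⟨Nat.prime_two⟩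
  have hp : IsPGroup 2 (zpowers x) := by
    rintro ⟨z, k, rfl⟩
    refine ⟨1, Subtype.ext ?_⟩
    show (x ^ k) ^ 2 ^ 1 = 1
    rw [pow_one, pow_two, ← (Commute.refl x).mul_zpow, hx, one_zpow]
  have := T.3 (hp.to_sup_of_normal_right' T.2 ((zpowers_le).2 hn)) le_sup_right
  exact this ▸ mem_sup_left (mem_zpowers x)

/-- The parts of an element of order `2p`. -/
theorem parts {g : G} (hg : orderOf g = 2 * p) :
    orderOf (g ^ p) = 2 ∧ orderOf (g ^ 2) = p ∧
      ∀ S : Subgroup G, g ^ p ∈ S → g ^ 2 ∈ S → g ∈ S := by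
  have hp0 : p ≠ 0 := h.hp.ne_zero
  refine ⟨?_, ?_, fun S h1 h2 => ?_⟩
  · rw [orderOf_pow' g hp0, hg, Nat.gcd_eq_right ⟨2, mul_comm _ _⟩]
    exact Nat.mul_div_cancel 2 h.hp.pos
  · rw [orderOf_pow' g two_ne_zero, hg, Nat.gcd_eq_right ⟨p, rfl⟩]
    exact Nat.mul_div_cancel_left p two_pos
  · obtain ⟨r, hr⟩ := h.p_odd
    have e : g = (g ^ 2) ^ (r + 1) * (g ^ p)⁻¹ := by
      rw [← pow_mul, eq_mul_inv_iff_mul_eq, ← pow_succ']
      congr 1
      omega
    rw [e]
    exact S.mul_mem (S.pow_mem h2 _) (S.inv_mem h1)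

/-- Inverted elements of `N(T)`. -/
theorem sq_mem_of_inverted {v j : G} (hv : v ∈ (T : Subgroup G))
    (hj : j ∈ normalizer ((T : Subgroup G) : Set G)) (he : v * j * v⁻¹ = j⁻¹) :
    j * j ∈ (T : Subgroup G) := by
  have h1 : j * v⁻¹ * j⁻¹ ∈ (T : Subgroup G) := (coe_normalizer_conj hj).2 (inv_mem hv)
  have h2 : v * j * v⁻¹ * j⁻¹ ∈ (T : Subgroup G) := by
    rw [show v * j * v⁻¹ * j⁻¹ = v * (j * v⁻¹ * j⁻¹) by group]
    exact mul_mem hv h1
  rw [he] at h2
  have := inv_mem h2
  rwa [mul_inv_rev, inv_inv] at this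

section

variable (hc : CoreNormal T) (h4 : 4 ≤ Nat.card (T : Subgroup G))
include hc

theorem centralizer_invol_le {s : G} (hs : s ∈ (T : Subgroup G)) (hs1 : s ≠ 1) :
    centralizer ({s} : Set G) ≤ normalizer ((T : Subgroup G) : Set G) :=
  h.le_normalizer_of_core T (h.le_centralizer_invol T hs) (fun _ hq hd => h.primes_mem T hs hs1 hq hd)
    (hc s hs hs1)

/-- The cores centralise `T`. -/
theorem core_le {s : G} (hs : s ∈ (T : Subgroup G)) (hs1 : s ≠ 1) :
    Balance.coreIn 2 (centralizer ({s} : Set G)) ≤ centralizer ((T : Subgroup G) : Set G) := by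
  intro o ho
  rw [mem_centralizer_iff]
  intro t ht
  have h1 : o * t * o⁻¹ * t⁻¹ ∈ (T : Subgroup G) :=
    mul_mem ((coe_normalizer_conj (hc s hs hs1 ho)).2 ht) (inv_mem ht)
  have h2 : o * (t * o⁻¹ * t⁻¹) ∈ Balance.coreIn 2 (centralizer ({s} : Set G)) :=
    mul_mem ho ((coe_normalizer_conj (Balance.le_normalizer_coreIn _ (h.le_centralizer_invol T hs ht))).2
      (inv_mem ho))
  have e := h.eq_one_of_odd_mem T (x := o * t * o⁻¹ * t⁻¹) h1
    ((h.odd_core _).of_dvd_nat (Subgroup.orderOf_dvd_natCard _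
      (show o * t * o⁻¹ * t⁻¹ ∈ _ by rwa [show o * t * o⁻¹ * t⁻¹ = o * (t * o⁻¹ * t⁻¹) by group])))
  rw [mul_inv_eq_one, mul_inv_eq_iff_eq_mul] at e
  exact e.symm

include h4

theorem exists_invol_mem : ∃ t ∈ (T : Subgroup G), t ≠ 1 :=
  (T : Subgroup G).bot_or_exists_ne_one.resolve_left fun e => by
    rw [e, Subgroup.card_bot] at h4
    omega

theorem hasFour : HasFour (normalizer ((T : Subgroup G) : Set G)) := by
  obtain ⟨a, ha, ha1⟩ := h.exists_invol_mem T hc h4
  obtain ⟨b, hb, hb1, hba⟩ : ∃ b ∈ (T : Subgroup G), b ≠ 1 ∧ b ≠ a := by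
    by_contra hne
    push Not at hne
    have hle : (T : Subgroup G) ≤ zpowers a := fun x hx => by
      by_cases hx1 : x = 1
      · exact hx1 ▸ one_mem _
      · exact (hne x hx hx1) ▸ mem_zpowers a
    have := Subgroup.card_le_of_le hle
    rw [Nat.card_zpowers, h.orderOf_invol T.2 ha ha1] at this
    omega
  exact ⟨a, le_normalizer ha, b, le_normalizer hb, h.orderOf_invol T.2 ha ha1,
    h.orderOf_invol T.2 hb hb1, hba.symm, h.comm_of_mem T.2 ha hb⟩

variable [IsSimpleGroup G]

theorem stronglyEmbedded : Cfsg.IsStronglyEmbedded (normalizer ((T : Subgroup G) : Set G)) := by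
  haveI : Fact (Nat.Prime 2) := ⟨Nat.prime_two⟩
  obtain ⟨k, hk⟩ := IsPGroup.iff_card.1 T.2
  have htop : normalizer ((T : Subgroup G) : Set G) ≠ ⊤ := by
    refine normalizer_ne_top (fun e => by rw [e, Subgroup.card_bot] at h4; omega) fun e => ?_
    obtain ⟨x, hx⟩ := h.ex
    have hd := Subgroup.orderOf_dvd_natCard (T : Subgroup G) (x := x) (e ▸ mem_top x)
    rw [hx, hk] at hd
    exact h.ne_two ((Nat.prime_dvd_prime_iff_eq h.hp Nat.prime_two).1
      (h.hp.dvd_of_dvd_pow ((dvd_mul_left p 2).trans hd)))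
  have heven : Even (Nat.card (normalizer ((T : Subgroup G) : Set G))) := by
    refine even_iff_two_dvd.2 (dvd_trans ?_ (card_dvd_of_le le_normalizer))
    rw [hk] at h4 ⊢
    rcases k with _ | k
    · simp at h4
    · exact dvd_pow_self 2 (by omega)
  refine Involutions.StronglyEmbedded.of_forall_conj htop heven fun t htM ht g hg => ?_
  have htT := h.invol_mem T (invol_mul_self ht) htM
  have hgT := h.invol_mem T (invol_mul_self ((orderOf_conj_eq g t).trans ht)) hg
  obtain ⟨n, hn, hne⟩ := h.fusion T htT hgT (isConj_iff.2 ⟨g, rfl⟩)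
  have hcen : n⁻¹ * g ∈ centralizer ({t} : Set G) := by
    refine mem_centralizer_singleton_iff.2 ?_
    calc n⁻¹ * g * t = n⁻¹ * (g * t * g⁻¹) * g := by group
      _ = n⁻¹ * (n * t * n⁻¹) * g := by rw [hne]
      _ = t * (n⁻¹ * g) := by group
  have := mul_mem hn (h.centralizer_invol_le T hc htT (invol_ne_one ht) hcen)
  rwa [mul_inv_cancel_left] at this

theorem trans_invol {t s : G} (ht : t ∈ (T : Subgroup G)) (ht1 : t ≠ 1) (hs : s ∈ (T : Subgroup G))
    (hs1 : s ≠ 1) : ∃ n ∈ normalizer ((T : Subgroup G) : Set G), n * t * n⁻¹ = s :=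
  h.fusion T ht hs (Involutions.StronglyEmbedded.isConj_involutions (h.stronglyEmbedded T hc h4)
    (h.orderOf_invol T.2 ht ht1) (h.orderOf_invol T.2 hs hs1))

/-- The involutions fixing the base coset. -/
theorem mem_invAt_iff {t : G} :
    t ∈ invAt G ((1 : G) : G ⧸ normalizer ((T : Subgroup G) : Set G)) ↔
      t ∈ (T : Subgroup G) ∧ t ≠ 1 := by
  rw [BenderOne20.mem_invAt_base_iff]
  exact ⟨fun e => ⟨h.invol_mem T (invol_mul_self e.1) e.2, invol_ne_one e.1⟩,
    fun e => ⟨h.orderOf_invol T.2 e.1 e.2, le_normalizer e.1⟩⟩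

theorem card_invAt_add_one :
    Nat.card (invAt G ((1 : G) : G ⧸ normalizer ((T : Subgroup G) : Set G))) + 1 =
      Nat.card (T : Subgroup G) := by
  have e : invAt G ((1 : G) : G ⧸ normalizer ((T : Subgroup G) : Set G)) =
      ((T : Subgroup G) : Set G) \ {1} := Set.ext fun t => by
    rw [h.mem_invAt_iff T hc h4]; exact Iff.rfl
  rw [e, Nat.card_coe_set_eq, Set.ncard_sdiff_singleton_add_one (one_mem _) (Set.toFinite _),
    ← Nat.card_coe_set_eq]
  rfl

/-- The order of `N(T)`. -/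
theorem card_normalizer {s : G} (hs : s ∈ (T : Subgroup G)) (hs1 : s ≠ 1) :
    Nat.card (normalizer ((T : Subgroup G) : Set G)) =
      Nat.card (invAt G ((1 : G) : G ⧸ normalizer ((T : Subgroup G) : Set G))) *
        Nat.card (centralizer ({s} : Set G)) := by
  rw [BenderOne20.OneFix.card_eq_orbit_mul _ (s := s) ((h.mem_invAt_iff T hc h4).2 ⟨hs, hs1⟩)
    (fun d hd t ht => by
      rw [h.mem_invAt_iff T hc h4] at ht ⊢
      exact ⟨(coe_normalizer_conj hd).2 ht.1, fun e => ht.2 (conj_eq_one_iff.1 e)⟩)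
    (fun t ht => h.trans_invol T hc h4 hs hs1 ((h.mem_invAt_iff T hc h4).1 ht).1
      ((h.mem_invAt_iff T hc h4).1 ht).2)]
  rw [inf_eq_right.2 (h.centralizer_invol_le T hc hs hs1)]

/-- No element of `N(T)` fixing a second coset is inverted by an involution of `N(T)`. -/
theorem noBad : BenderOne.NoBad (normalizer ((T : Subgroup G) : Set G)) := by
  intro v j g hv hvM hjM hg hjg he
  have hvT := h.invol_mem T (invol_mul_self hv) hvM
  have hjj := h.sq_mem_of_inverted T hvT hjM he
  by_contra hj1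
  have hj4 : j ^ 2 ^ 2 = 1 := by
    rw [show (2 : ℕ) ^ 2 = 2 * 2 from rfl, pow_mul, pow_two, pow_two]
    exact h.sq_of_mem T.2 hjj
  have ho : orderOf j = 2 := invol_iff.2 ⟨h.sq_eq_one hj4, hj1⟩
  exact hg (inv_mem_iff.1 (Involutions.StronglyEmbedded.mem_of_conj_mem
    (h.stronglyEmbedded T hc h4) ho (t := j) (g := g⁻¹) hjM (by rwa [inv_inv, mul_assoc])))

/-- The core of `C(T)` contains the centralised `p`-elements. -/
theorem mem_core {y : G} (hy : y ∈ centralizer ((T : Subgroup G) : Set G)) (hyp : orderOf y = p) :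
    y ∈ Balance.coreIn 2 (centralizer ((T : Subgroup G) : Set G)) := by
  obtain ⟨t, ht, ht1⟩ := h.exists_invol_mem T hc h4
  exact h.mem_core_centralizer T ht ht1 hy (hyp ▸ h.p_odd)

theorem order_core {y : G} (hy : y ∈ Balance.coreIn 2 (centralizer ((T : Subgroup G) : Set G)))
    (hy1 : y ≠ 1) : orderOf y = p := by
  obtain ⟨t, ht, ht1⟩ := h.exists_invol_mem T hc h4
  exact h.orderOf_eq_p (h.orderOf_invol T.2 ht ht1)
    (mem_centralizer_iff.1 (Balance.coreIn_le _ hy) t ht).symm hy1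
    ((h.odd_core _).of_dvd_nat (Subgroup.orderOf_dvd_natCard _ hy))

/-- The centraliser of an element of the core of `C(T)` lies in `N(T)`. -/
theorem centralizer_core_le {y : G}
    (hy : y ∈ Balance.coreIn 2 (centralizer ((T : Subgroup G) : Set G))) (hy1 : y ≠ 1) :
    centralizer ({y} : Set G) ≤ normalizer ((T : Subgroup G) : Set G) := by
  haveI : Fact (Nat.Prime 2) := ⟨Nat.prime_two⟩
  have hTC : (T : Subgroup G) ≤ centralizer ({y} : Set G) := fun x hx =>
    mem_centralizer_singleton_iff.2 (mem_centralizer_iff.1 (Balance.coreIn_le _ hy) x hx)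
  have hK : ∀ q, q.Prime → q ∣ Nat.card (centralizer ({y} : Set G)) → q = 2 ∨ q = p :=
    fun q hq hd => h.primes_p (h.order_core T hc h4 hy hy1) hq hd
  refine h.le_normalizer_of_core T hTC hK (le_trans ?_ (Subgroup.centralizer_le_normalizer _))
  set U := Balance.coreIn 2 (centralizer ({y} : Set G)) with hU
  have hTU : (T : Subgroup G) ≤ normalizer (U : Set G) := hTC.trans (Balance.le_normalizer_coreIn _)
  refine Signalizer.le_of_hyp (h.elementary T) hTU
    (fun hd => Nat.not_even_iff_odd.2 (h.odd_core _) (even_iff_two_dvd.2 hd)) fun B hB => ?_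
  obtain ⟨b, hbB, hb1⟩ : ∃ b ∈ B, b ≠ (1 : G) := B.bot_or_exists_ne_one.resolve_left fun e => by
    have := hB.2
    rw [e, Subgroup.relIndex_bot_left] at this
    omega
  have hbT := hB.1 hbB
  refine (h.le_core_of_invariant T (h.le_centralizer_invol T hbT)
    (fun q hq hd => h.primes_mem T hbT hb1 hq hd) (D := U ⊓ centralizer (B : Set G)) ?_ ?_ ?_).trans
    (h.core_le T hc hbT hb1)
  · exact fun x hx => mem_centralizer_singleton_iff.2 (mem_centralizer_iff.1 hx.2 b hbB).symm
  · exact (h.odd_core _).of_dvd_nat (card_dvd_of_le inf_le_left)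
  · refine inv_inf hTU ((h.le_centralizer_self T).trans ?_)
    exact (centralizer_le (fun x hx => hB.1 hx)).trans
      ((Subgroup.le_normalizer).trans' le_rfl)

/-- No involution inverts a non-trivial element of the core of `C(T)`. -/
theorem not_inverted {y u : G} (hy : y ∈ Balance.coreIn 2 (centralizer ((T : Subgroup G) : Set G)))
    (hy1 : y ≠ 1) (hu : orderOf u = 2) (he : u * y * u⁻¹ = y⁻¹) : False := by
  have hyp := h.order_core T hc h4 hy hy1
  have hCy := h.centralizer_core_le T hc h4 hy hy1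
  have hTC : ∀ x ∈ (T : Subgroup G), x * y = y * x := fun x hx =>
    mem_centralizer_iff.1 (Balance.coreIn_le _ hy) x hx
  have huN : u ∈ normalizer (zpowers y : Set G) := by
    refine conj_mem_normalizer_of_map_eq ?_
    rw [MonoidHom.map_zpowers]
    show zpowers (u * y * u⁻¹) = zpowers y
    rw [he, zpowers_inv]
  have hkey : ∀ z ∈ (T : Subgroup G), u * z * u⁻¹ ∈ (T : Subgroup G) := by
    intro z hz
    refine h.invol_mem T ?_ (hCy ?_)
    · rw [show u * z * u⁻¹ * (u * z * u⁻¹) = u * (z * z) * u⁻¹ by group, h.sq_of_mem T.2 hz]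
      group
    · rw [centralizer_zpowers]
      refine (coe_normalizer_conj (mem_normalizer_centralizer huN)).2 ?_
      rw [← centralizer_zpowers]
      exact mem_centralizer_singleton_iff.2 (hTC z hz)
  have huM : u ∈ normalizer ((T : Subgroup G) : Set G) := by
    rw [mem_normalizer_iff]
    refine fun z => ⟨hkey z, fun hz => ?_⟩
    have := hkey _ hz
    rwa [show u * (u * z * u⁻¹) * u⁻¹ = (u * u) * z * (u * u)⁻¹ by group, invol_mul_self hu, one_mul,
      inv_one, mul_one] at this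
  have huT := h.invol_mem T (invol_mul_self hu) huM
  rw [hTC u huT, mul_inv_cancel_right] at he
  have h2 : y ^ 2 = 1 := by rw [pow_two]; exact eq_inv_iff_mul_eq_one.1 he
  have hd := orderOf_dvd_of_pow_eq_one h2
  rw [hyp] at hd
  exact h.ne_two ((Nat.prime_dvd_prime_iff_eq h.hp Nat.prime_two).1 hd)

end

end Two

end Cfsg.Agent.Lib.OneComposite
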