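import Cfsg.Agent.Lib.OneComposite.Strong
import Cfsg.Agent.Lib.PSolvable.PLengthMore
import Cfsg.Agent.Lib.OddOrder.FeitThompson

/-!
# Tools for the odd-order quotient `N(T) / C(T)`

Owner: helper73.
-/

set_option autoImplicit false
set_option linter.style.haveILetI false
set_option linter.unusedSectionVars false

namespace Cfsg.Agent.Lib.OneComposite

open Subgroup Cfsg.Agent.Lib.Involutions.Basic

universe u

variable {G : Type u} [Group G] [Finite G] {p : ℕ}

theorem relIndex_map_subtype {B : Subgroup G} (R : Subgroup B) :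
    (R.map B.subtype).relIndex B = R.index := by
  rw [relIndex, subgroupOf, comap_map_eq_self_of_injective B.subtype_injective]

theorem mem_normalizer_char {W : Subgroup G} (C : Subgroup W) [C.Characteristic] {y : G}
    (hy : y ∈ normalizer (W : Set G)) : y ∈ normalizer (C.map W.subtype : Set G) := by
  refine conj_mem_normalizer_of_map_eq ?_
  rw [Subgroup.map_map]
  have e : (MulAut.conj y).toMonoidHom.comp W.subtype =
      W.subtype.comp (W.normalizerMonoidHom ⟨y, hy⟩).toMonoidHom := by ext z; rfl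
  rw [e, ← Subgroup.map_map]
  congr 1
  exact C.characteristic_iff_map_eq.1 inferInstance _

/-- The Frattini argument, counted. -/
theorem relIndex_dvd_normalizer {r : ℕ} [Fact r.Prime] {B M : Subgroup G} (hBM : B ≤ M)
    (hn : M ≤ normalizer (B : Set G)) (R : Sylow r B) :
    B.relIndex M ∣ Nat.card ↥(M ⊓ normalizer ((R : Subgroup B).map B.subtype : Set G)) := by
  set N := B.subgroupOf M with hN
  haveI : N.Normal := (normal_subgroupOf_iff_le_normalizer hBM).2 hn
  set e := subgroupOfEquivOfLe hBM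
  set R' : Sylow r N := R.mapSurjective (f := e.symm.toMonoidHom) e.symm.surjective with hR'
  set Nz := normalizer ((((R' : Subgroup N).map N.subtype : Subgroup M)) : Set M) with hNz
  have htop : Nz ⊔ N = ⊤ := Sylow.normalizer_sup_eq_top R'
  have hidx : B.relIndex M = N.relIndex Nz := by
    rw [← Subgroup.relIndex_sup_right Nz N, htop, Subgroup.relIndex_top_right]
    rfl
  rw [hidx]
  refine (N.subgroupOf Nz).index_dvd_card.trans ?_
  rw [Nat.card_congr (equivMapOfInjective Nz M.subtype M.subtype_injective).toEquiv]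
  refine card_dvd_of_le (le_inf (map_subtype_le Nz) ?_)
  refine (le_normalizer_map M.subtype).trans (le_of_eq ?_)
  congr 2
  show map M.subtype (map N.subtype ((R : Subgroup B).map e.symm.toMonoidHom)) = _
  rw [map_map, map_map]
  rfl

namespace Two

variable (h : Two p G) (T : Sylow 2 G)
include h

/-- A `p`-subgroup of `N(T)` normalised by an element of another odd prime order centralises `T`. -/
theorem le_centralizer_of_elt {B : Subgroup G} (hB : IsPGroup p B)
    (hBM : B ≤ normalizer ((T : Subgroup G) : Set G)) {g : G} {l : ℕ} (hl : l.Prime) (hl2 : l ≠ 2)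
    (hlp : l ≠ p) (hgM : g ∈ normalizer ((T : Subgroup G) : Set G))
    (hgB : g ∈ normalizer (B : Set G)) (hgo : orderOf g = l) :
    B ≤ centralizer ((T : Subgroup G) : Set G) := by
  haveI : Fact (Nat.Prime 2) := ⟨Nat.prime_two⟩
  haveI := Fact.mk h.hp
  obtain ⟨a, ha⟩ := IsPGroup.iff_card.1 hB
  obtain ⟨n, hn⟩ := IsPGroup.iff_card.1 T.2
  have hcop : (Nat.card B).Coprime (Nat.card (T : Subgroup G)) := by
    rw [ha, hn]
    exact ((Nat.coprime_primes h.hp Nat.prime_two).2 h.ne_two).pow a n
  refine le_centralizer_of_norm (p := 2) hl T.2 hBM hgM hgB hcop fun x hx b hb => ?_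
  set z := x * (b * g) with hz
  set k := orderOf z with hk
  have hbgk : (b * g) ^ k ∈ (T : Subgroup G) := by
    obtain ⟨e, hmem⟩ := prod_conj_eq (mul_mem (hBM hb) hgM) hx k
    rw [← hz, hk, pow_orderOf_eq_one, ← hk] at e
    rw [eq_inv_of_mul_eq_one_right e]
    exact inv_mem (list_prod_mem hmem)
  have hcomp : ∀ i : ℕ, (b * g) ^ i * (g ^ i)⁻¹ ∈ B := by
    intro i
    induction i with
    | zero => simp
    | succ i ih =>
      have : (b * g) ^ (i + 1) * (g ^ (i + 1))⁻¹ =
          b * (g * ((b * g) ^ i * (g ^ i)⁻¹) * g⁻¹) := by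
        rw [pow_succ', pow_succ']; group
      rw [this]
      exact mul_mem hb ((coe_normalizer_conj hgB).2 ih)
  set c := (b * g) ^ k * (g ^ k)⁻¹ with hc
  have hcB : c ∈ B := hcomp k
  have hgk : g ^ k = c⁻¹ * (b * g) ^ k * c * c⁻¹ := by rw [hc]; group
  have hgT : (g ^ k) ^ p ^ a ∈ (T : Subgroup G) := by
    obtain ⟨e, hmem⟩ := prod_conj_eq (h := c⁻¹) (inv_mem (hBM hcB))
      (show c⁻¹ * (b * g) ^ k * c ∈ (T : Subgroup G) by
        have := (coe_normalizer_conj (inv_mem (hBM hcB))).2 hbgk
        rwa [inv_inv] at this) (p ^ a)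
    have hc1 : c⁻¹ ^ p ^ a = 1 :=
      orderOf_dvd_iff_pow_eq_one.1 (ha ▸ Subgroup.orderOf_dvd_natCard B (inv_mem hcB))
    rw [hc1, mul_one, ← hgk] at e
    rw [← e]
    exact list_prod_mem hmem
  have h1 : g ^ (k * p ^ a * 2 ^ n) = 1 := by
    rw [pow_mul, pow_mul]
    exact orderOf_dvd_iff_pow_eq_one.1 (hn ▸ Subgroup.orderOf_dvd_natCard _ hgT)
  have hlk : l ∣ k := by
    have := orderOf_dvd_of_pow_eq_one h1
    rw [hgo] at this
    rcases hl.dvd_mul.1 this with e | e
    · rcases hl.dvd_mul.1 e with e' | e'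
      · exact e'
      · exact absurd ((Nat.prime_dvd_prime_iff_eq hl h.hp).1 (hl.dvd_of_dvd_pow e')) hlp
    · exact absurd ((Nat.prime_dvd_prime_iff_eq hl Nat.prime_two).1 (hl.dvd_of_dvd_pow e)) hl2
  have hkl : k = l := by
    rcases h.cases z with e | e | e | ⟨e, e'⟩
    · rw [hk, e, orderOf_one, Nat.dvd_one] at hlk
      exact absurd hlk hl.ne_one
    · exact ((Nat.prime_dvd_prime_iff_eq hl e).1 (hk ▸ hlk)).symm
    rotate_left
    · -- `z ^ l` lies in `B T`
      obtain ⟨e1, hmem1⟩ := prod_conj_eq (mul_mem (hBM hb) hgM) hx l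
      set q₁ := (b * g) ^ l with hq₁
      have hq₁B : q₁ ∈ B := by
        have := hcomp l
        rwa [orderOf_dvd_iff_pow_eq_one.1 (hgo ▸ dvd_rfl : orderOf g ∣ l), inv_one, mul_one] at this
      have hzT : (z ^ l) ^ p ^ a ∈ (T : Subgroup G) := by
        obtain ⟨e2, hmem2⟩ := prod_conj_eq (hBM hq₁B) (list_prod_mem hmem1) (p ^ a)
        have hq₂ : q₁ ^ p ^ a = 1 := by
          rw [← orderOf_dvd_iff_pow_eq_one, ← ha]
          exact Subgroup.orderOf_dvd_natCard B hq₁B
        rw [e1, ← hz, hq₂, mul_one] at e2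
        rw [← e2]
        exact list_prod_mem hmem2
      have h2 : z ^ (l * p ^ a * 2 ^ n) = 1 := by
        rw [pow_mul, pow_mul]
        exact orderOf_dvd_iff_pow_eq_one.1 (hn ▸ Subgroup.orderOf_dvd_natCard _ hzT)
      rw [← hk] at e e'
      have h3 : k ∣ l := ((((h.hp.coprime_iff_not_dvd.2 e').symm).pow_right a)).dvd_of_dvd_mul_right
        (((Nat.coprime_two_right.2 e).pow_right n).dvd_of_dvd_mul_right (orderOf_dvd_of_pow_eq_one h2))
      exact Nat.dvd_antisymm h3 hlk
    · rw [hk, e] at hlk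
      rcases hl.dvd_mul.1 hlk with e' | e'
      · exact absurd ((Nat.prime_dvd_prime_iff_eq hl Nat.prime_two).1 e') hl2
      · exact absurd ((Nat.prime_dvd_prime_iff_eq hl h.hp).1 e') hlp
  rw [← hkl, hk, pow_orderOf_eq_one]

theorem centralizer_sylow_le : centralizer ((T : Subgroup G) : Set G) ≤ normalizer ((T : Subgroup G) : Set G) :=
  Subgroup.centralizer_le_normalizer _

theorem odd_relIndex :
    Odd ((centralizer ((T : Subgroup G) : Set G)).relIndex (normalizer ((T : Subgroup G) : Set G))) := by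
  haveI : Fact (Nat.Prime 2) := ⟨Nat.prime_two⟩
  have h1 : Odd ((T : Subgroup G).index) := by
    rw [← Nat.not_even_iff_odd, even_iff_two_dvd]
    exact T.not_dvd_index
  exact h1.of_dvd_nat ((Dvd.intro _ (Subgroup.relIndex_mul_index (h.centralizer_sylow_le T))).trans
    (Subgroup.index_dvd_of_le (h.le_centralizer_self T)))

/-- A chief section above `C(T)`. -/
theorem exists_chief {y : G} (hy : y ∈ normalizer ((T : Subgroup G) : Set G))
    (hyC : y ∉ centralizer ((T : Subgroup G) : Set G)) :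
    ∃ (r : ℕ) (B : Subgroup G), r.Prime ∧ r ≠ 2 ∧
      centralizer ((T : Subgroup G) : Set G) ≤ B ∧ B ≤ normalizer ((T : Subgroup G) : Set G) ∧
      normalizer ((T : Subgroup G) : Set G) ≤ normalizer (B : Set G) ∧
      ∃ e : ℕ, 0 < e ∧ (centralizer ((T : Subgroup G) : Set G)).relIndex B = r ^ e := by
  set M := normalizer ((T : Subgroup G) : Set G) with hM
  set C := (centralizer ((T : Subgroup G) : Set G)).subgroupOf M with hC
  haveI : C.Normal := ⟨fun c hc m => (coe_normalizer_conj (mem_normalizer_centralizer m.2)).2 hc⟩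
  have hodd : Odd (Nat.card (↥M ⧸ C)) := h.odd_relIndex T
  haveI : Nontrivial (↥M ⧸ C) := ⟨⟨QuotientGroup.mk ⟨y, hy⟩, 1, fun e => hyC
    (mem_subgroupOf.1 ((QuotientGroup.eq_one_iff _).1 e))⟩⟩
  haveI : Group.IsSolvable (↥M ⧸ C) := OddOrder.FeitThompson.isSolvable_of_odd_card hodd
  obtain ⟨r, hr, hne⟩ := PSolvable.exists_pCore_ne_bot (G := ↥M ⧸ C)
  haveI := Fact.mk hr
  set P := Cfsg.pCore r (↥M ⧸ C) with hP
  haveI : P.Normal := Cfsg.pCore_normal r _
  set f := QuotientGroup.mk' C
  obtain ⟨e, he⟩ := IsPGroup.iff_card.1 (Cores.pCore_isPGroup (G := ↥M ⧸ C) r)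
  have he0 : 0 < e := by
    rcases e with _ | e
    · exact absurd (Subgroup.eq_bot_of_card_eq _ (by rw [he, pow_zero])) hne
    · exact Nat.succ_pos _
  have hCle : C ≤ P.comap f := fun c hc => by
    show f c ∈ P
    rw [show f c = 1 from (QuotientGroup.eq_one_iff _).2 hc]
    exact one_mem _
  refine ⟨r, (P.comap f).map M.subtype, hr, fun e2 => ?_, ?_, map_subtype_le _, ?_, e, he0, ?_⟩
  · subst e2
    have := hodd.of_dvd_nat ((dvd_pow_self 2 he0.ne').trans (he ▸ P.card_subgroup_dvd_card))
    exact absurd this (by decide)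
  · intro c hc
    exact ⟨⟨c, h.centralizer_sylow_le T hc⟩, hCle hc, rfl⟩
  · refine le_trans (le_of_eq ?_) (le_normalizer_map M.subtype)
    rw [normalizer_eq_top, ← MonoidHom.range_eq_map, range_subtype]
  · calc _ = (((centralizer ((T : Subgroup G) : Set G)).subgroupOf M).map M.subtype).relIndex
            ((P.comap f).map M.subtype) := by
          rw [subgroupOf_map_subtype, inf_eq_left.2 (h.centralizer_sylow_le T)]
      _ = C.relIndex (P.comap f) := relIndex_map_map_of_injective _ _ M.subtype_injective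
      _ = ((⊥ : Subgroup (↥M ⧸ C)).comap f).relIndex (P.comap f) := by
          rw [MonoidHom.comap_bot, QuotientGroup.ker_mk']
      _ = (⊥ : Subgroup (↥M ⧸ C)).relIndex ((P.comap f).map f) := Subgroup.relIndex_comap _ _ _
      _ = r ^ e := by
          rw [map_comap_eq_self_of_surjective (QuotientGroup.mk'_surjective C), relIndex_bot_left, he]

end Two

end Cfsg.Agent.Lib.OneComposite
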